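import Cfsg.Agent.H879.TL.Adapt
import Cfsg.Agent.H883.Bridge

/-!
# The setting of S5848 and S5851: residual cores in `Ω₁₀^±(q)` (helper933)

* `Cx p Q H P` : `H` is a maximal subgroup of `omegaGL Q`, `dim = 10`, with residual core `P`;
* `Cx.core`, `Cx.fixQ`, `Cx.sd`, `Cx.scalar_sq` : the first consequences;
* `Concl Q P` : the conclusion of the two statements.
-/

set_option autoImplicit false
set_option linter.unusedSectionVars false

namespace Cfsg.Agent.H933.O10

open Cfsg Cfsg.Geo Matrix Cfsg.Agent.H915.LD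

universe u

variable {F : Type u} [Field F]

section general

variable {ι : Type} [Fintype ι] [DecidableEq ι] {Q : (ι → F) → F}

/-- elements of `omegaGL Q` are isometries -/
theorem fix_of_mem_omegaGL {g : GL ι F} (hg : g ∈ omegaGL Q) (v : ι → F) : Q ((g : Matrix ι ι F) *ᵥ v) = Q v := by
  obtain ⟨x, -, rfl⟩ := hg
  exact (x.2 : _) v v

theorem polar_mulVec {g : GL ι F} (hg : g ∈ omegaGL Q) (x y : ι → F) :
    QuadraticMap.polar Q ((g : Matrix ι ι F) *ᵥ x) ((g : Matrix ι ι F) *ᵥ y) = QuadraticMap.polar Q x y := by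
  rw [QuadraticMap.polar, ← mulVec_add, fix_of_mem_omegaGL hg, fix_of_mem_omegaGL hg, fix_of_mem_omegaGL hg]
  rfl

theorem polar_eq_dot (hQ : IsNondegenerateQuadraticForm Q) (x y : ι → F) :
    QuadraticMap.polar Q x y = x ⬝ᵥ (gramMatrix (QuadraticMap.polar Q) *ᵥ y) := by
  have hb := hQ.polar_bilinear
  let B : LinearMap.BilinMap F (ι → F) F :=
    LinearMap.mk₂ F (QuadraticMap.polar Q) (fun x y v => hb.add_left x y v)
      (fun c x v => by rw [hb.smul_left, smul_eq_mul]) (fun v x y => hb.add_right v x y)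
      (fun c v x => by rw [hb.smul_right, smul_eq_mul])
  have h1 : ∀ x y, B x y = QuadraticMap.polar Q x y := fun _ _ => rfl
  rw [← h1]
  have hx : x = ∑ i, x i • (Pi.single i 1 : ι → F) := pi_eq_sum_univ' x
  have hy : y = ∑ i, y i • (Pi.single i 1 : ι → F) := pi_eq_sum_univ' y
  conv_lhs => rw [hx, hy]
  simp only [map_sum, LinearMap.sum_apply, map_smul, LinearMap.smul_apply, smul_eq_mul, dotProduct, mulVec,
    gramMatrix, Finset.mul_sum]
  rw [Finset.sum_comm]
  refine Finset.sum_congr rfl fun i _ => Finset.sum_congr rfl fun j _ => ?_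
  rw [h1]
  ring

/-- the Gram matrix is invertible -/
theorem isUnit_gram (hQ : IsNondegenerateQuadraticForm Q) : IsUnit (gramMatrix (QuadraticMap.polar Q)) := by
  rw [← Matrix.mulVec_injective_iff_isUnit]
  intro x y hxy
  by_contra hne
  obtain ⟨-, z, hz⟩ := hQ.nondegenerate (x - y) (sub_ne_zero.2 hne)
  apply hz
  have h1 : QuadraticMap.polar Q z (x - y) = 0 := by
    rw [polar_eq_dot hQ, mulVec_sub, sub_eq_zero.2 hxy, dotProduct_zero]
  rwa [QuadraticMap.polar_comm] at h1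

theorem gram_conj (hQ : IsNondegenerateQuadraticForm Q) {g : GL ι F} (hg : g ∈ omegaGL Q) :
    (g : Matrix ι ι F)ᵀ * gramMatrix (QuadraticMap.polar Q) * (g : Matrix ι ι F) = gramMatrix (QuadraticMap.polar Q) := by
  ext i j
  have h1 := polar_mulVec hg (Pi.single i 1) (Pi.single j 1)
  rw [polar_eq_dot hQ] at h1
  have h2 : (((g : Matrix ι ι F)ᵀ * gramMatrix (QuadraticMap.polar Q) * (g : Matrix ι ι F) : Matrix ι ι F)) i j =
      ((g : Matrix ι ι F) *ᵥ Pi.single i 1) ⬝ᵥ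
        (gramMatrix (QuadraticMap.polar Q) *ᵥ ((g : Matrix ι ι F) *ᵥ Pi.single j 1)) := by
    rw [mulVec_mulVec, mulVec_single_one, mulVec_single_one, Matrix.mul_assoc, Matrix.mul_apply]
    rfl
  rw [h2, h1]
  rfl

/-- isometries of a nondegenerate form: the traces of `g` and `g⁻¹` agree -/
theorem tr_inv_of_mem (hQ : IsNondegenerateQuadraticForm Q) {g : GL ι F} (hg : g ∈ omegaGL Q) : tr g⁻¹ = tr g := by
  obtain ⟨M, hM⟩ := isUnit_gram hQ
  have h := gram_conj hQ hg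
  rw [← hM] at h
  have h1 : ((M⁻¹ : (Matrix ι ι F)ˣ) : Matrix ι ι F) * (g : Matrix ι ι F)ᵀ * (M : Matrix ι ι F) =
      ((g⁻¹ : GL ι F) : Matrix ι ι F) := by
    have h2 : (((M⁻¹ : (Matrix ι ι F)ˣ) : Matrix ι ι F) * (g : Matrix ι ι F)ᵀ * (M : Matrix ι ι F)) *
        (g : Matrix ι ι F) = 1 := by
      rw [Matrix.mul_assoc, Matrix.mul_assoc, ← Matrix.mul_assoc ((g : Matrix ι ι F)ᵀ), h]
      exact M.inv_mul
    calc _ = (((M⁻¹ : (Matrix ι ι F)ˣ) : Matrix ι ι F) * (g : Matrix ι ι F)ᵀ * (M : Matrix ι ι F)) *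
        ((g : Matrix ι ι F) * ((g⁻¹ : GL ι F) : Matrix ι ι F)) := by
          rw [show (g : Matrix ι ι F) * ((g⁻¹ : GL ι F) : Matrix ι ι F) = 1 from g.mul_inv, Matrix.mul_one]
      _ = _ := by rw [← Matrix.mul_assoc, h2, Matrix.one_mul]
  rw [tr, tr, ← h1, Matrix.trace_mul_comm, ← Matrix.mul_assoc]
  rw [show (M : Matrix ι ι F) * ((M⁻¹ : (Matrix ι ι F)ˣ) : Matrix ι ι F) = 1 from M.mul_inv, Matrix.one_mul,
    Matrix.trace_transpose]

theorem sd_of_le (hQ : IsNondegenerateQuadraticForm Q) {P : Subgroup (GL ι F)} (h : P ≤ omegaGL Q) : SD P :=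
  fun _ hg => tr_inv_of_mem hQ (h hg)

end general

/-- The setting: `H` maximal in `omegaGL Q`, `P` a residual core of `H`. -/
structure Cx (p : ℕ) (Q : (Fin 10 → F) → F) (H P : Subgroup (GL (Fin 10) F)) : Prop where
  prime : p.Prime
  char : CharP F p
  hQ : IsNondegenerateQuadraticForm Q
  hH : IsMaximalIn (omegaGL Q) H
  hc : IsResidualCore H P

namespace Cx

variable {p : ℕ} {Q : (Fin 10 → F) → F} {H P : Subgroup (GL (Fin 10) F)}

theorem core (h : Cx p Q H P) : Core P := core_of_residual h.hc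

theorem le_omega (h : Cx p Q H P) : P ≤ omegaGL Q := h.hc.le.trans h.hH.1.le

theorem fixes (h : Cx p Q H P) : FixesQuadForm (matrixSet P) Q := by
  rintro _ ⟨g, hg, rfl⟩ v
  exact fix_of_mem_omegaGL (h.le_omega hg) v

theorem fixQ (h : Cx p Q H P) : FixQ P := ⟨Q, h.hQ, h.fixes⟩

theorem sd (h : Cx p Q H P) : SD P := sd_of_le h.hQ h.le_omega

/-- the scalars in `P` are `±1` -/
theorem scalar_sq (h : Cx p Q H P) {g : GL (Fin 10) F} (hg : g ∈ P) {c : F}
    (hc : (g : Matrix (Fin 10) (Fin 10) F) = c • (1 : Matrix (Fin 10) (Fin 10) F)) : c ^ 2 = 1 := by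
  obtain ⟨v, hv⟩ := H879.TL.exists_ne_of_nondeg h.hQ
  have h2 := fix_of_mem_omegaGL (h.le_omega hg) v
  rw [hc, Matrix.smul_mulVec, Matrix.one_mulVec, h.hQ.smul] at h2
  have h4 : (c ^ 2 - 1) * Q v = 0 := by rw [sub_mul, h2, one_mul, sub_self]
  exact sub_eq_zero.1 ((mul_eq_zero.1 h4).resolve_right hv)

end Cx

end Cfsg.Agent.H933.O10
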