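import Cfsg.Agent.H933.O10.Final
import Cfsg.Agent.H830.M22.Seven

/-!
# S5848 and S5851: no inputs (helper933)
-/

set_option autoImplicit false
set_option linter.unusedSectionVars false

namespace Cfsg.Agent.H933.O10

open Cfsg Cfsg.Geo Matrix Cfsg.Agent.H915.LD

universe u

variable {F : Type u} [Field F] [Fintype F]

theorem main (hk : ∀ (T : Type u) [Group T] [Finite T] [IsSimpleGroup T], IsKnownSimple' T)
    {Q : (Fin 10 → F) → F} (hQ : IsNondegenerateQuadraticForm Q) {H : Subgroup (GL (Fin 10) F)}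
    (hH : IsMaximalIn (omegaGL Q) H) (hS : InOrthogonalResidualClass H) :
    ∃ P : Subgroup (GL (Fin 10) F), IsResidualCore H P ∧ Concl Q P :=
  final ⟨fun h hp hT => H830.M22.m22_odd h hp hT⟩ hk hQ hH hS

end Cfsg.Agent.H933.O10
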