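import Cfsg.Agent.H933.O10.DelNM

/-!
# Twelve points (helper933)

`V` of dimension 10 spanned by vectors `W i j`, `i, j : Fin 12`, `W i j + W j k = W i k`, `∑ j, W j z = 0` (the heart of
the permutation module of degree 12 in characteristic 2 or 3).

* `W12.perm` : the action of `Perm (Fin 12)`;
* `Cx.twelve` : `H` maximal in `omegaGL Q` with core `P`, `P` permutes the twelve points 2-transitively and `H` preserves
  the set of the `W i j`: then `Soc P ≃ A₁₂`.
-/

set_option autoImplicit false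
set_option linter.unusedSectionVars false

namespace Cfsg.Agent.H933.O10

open QuadraticMap hiding proj
open Cfsg.Agent.LieClassical.OrthCore Cfsg.Agent.LieClassical.OrthTrans Cfsg.Agent.LieClassical.OrthFinite
open Cfsg.Agent.H882.Del

section abs

variable {F : Type*} [Field F] {V : Type*} [AddCommGroup V] [Module F V]

/-- The heart of the permutation module of degree 12. -/
structure W12 (F : Type*) [Field F] {V : Type*} [AddCommGroup V] [Module F V] (W : Fin 12 → Fin 12 → V) : Prop where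
  add : ∀ i j k, W i j + W j k = W i k
  sum : ∀ z, ∑ j, W j z = 0
  span : Submodule.span F (Set.range fun x : Fin 12 × Fin 12 => W x.1 x.2) = ⊤
  dim : Module.finrank F V = 10

namespace W12

variable {W : Fin 12 → Fin 12 → V} (w : W12 F W)

include w

theorem self (i : Fin 12) : W i i = 0 := by
  have := w.add i i i
  rwa [add_eq_left] at this

theorem neg (i j : Fin 12) : W j i = -W i j := by
  rw [eq_neg_iff_add_eq_zero, w.add, w.self]

theorem eq_sub (i j z : Fin 12) : W i j = W i z - W j z := by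
  rw [eq_sub_iff_add_eq, w.add]

/-- the vectors `W i 11` -/
theorem sys : Sys F (fun i : Fin 11 => W i.castSucc (Fin.last 11)) where
  span := by
    rw [eq_top_iff, ← w.span, Submodule.span_le]
    rintro _ ⟨⟨i, j⟩, rfl⟩
    have h : ∀ i, W i (Fin.last 11) ∈ Submodule.span F (Set.range fun i : Fin 11 => W i.castSucc (Fin.last 11)) := by
      intro i
      induction i using Fin.lastCases with
      | last => rw [w.self]; exact Submodule.zero_mem _
      | cast i => exact Submodule.subset_span ⟨i, rfl⟩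
    change W i j ∈ _
    rw [w.eq_sub i j (Fin.last 11)]
    exact Submodule.sub_mem _ (h i) (h j)
  card := by rw [w.dim, Fintype.card_fin]
  pos := by rw [w.dim]; norm_num
  sum := by
    have h := w.sum (Fin.last 11)
    rwa [Fin.sum_univ_castSucc, w.self, add_zero] at h

theorem exists_equiv (σ : Equiv.Perm (Fin 12)) : ∃ f : V ≃ₗ[F] V, ∀ i j, f (W i j) = W (σ i) (σ j) := by
  have h1 : ∀ σ : Equiv.Perm (Fin 12), ∑ i : Fin 11, W (σ i.castSucc) (σ (Fin.last 11)) = 0 := by
    intro σ
    have h := w.sum (σ (Fin.last 11))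
    rw [← Equiv.sum_comp σ, Fin.sum_univ_castSucc, w.self, add_zero] at h
    exact h
  have h2 : ∀ σ : Equiv.Perm (Fin 12), ∃ f : V →ₗ[F] V, ∀ i j, f (W i j) = W (σ i) (σ j) := by
    intro σ
    obtain ⟨f, hf⟩ := w.sys.exists_map _ (h1 σ)
    have h3 : ∀ i, f (W i (Fin.last 11)) = W (σ i) (σ (Fin.last 11)) := by
      intro i
      induction i using Fin.lastCases with
      | last => rw [w.self, map_zero, w.self]
      | cast i => exact hf i
    refine ⟨f, fun i j => ?_⟩
    rw [w.eq_sub i j (Fin.last 11), map_sub, h3, h3, ← w.eq_sub]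
  obtain ⟨f, hf⟩ := h2 σ
  obtain ⟨g, hg⟩ := h2 σ⁻¹
  refine ⟨LinearEquiv.ofLinearMap f g (w.sys.ext fun i => ?_) (w.sys.ext fun i => ?_), fun i j => hf i j⟩
  · rw [LinearMap.comp_apply, hg, hf, LinearMap.id_apply]
    exact congrArg₂ W (σ.apply_symm_apply _) (σ.apply_symm_apply _)
  · rw [LinearMap.comp_apply, hf, hg, LinearMap.id_apply]
    exact congrArg₂ W (σ.symm_apply_apply _) (σ.symm_apply_apply _)

theorem ext' {f g : V ≃ₗ[F] V} (h : ∀ i j, f (W i j) = g (W i j)) : f = g := w.sys.ext' fun _ => h _ _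

/-- The action of the symmetric group of degree 12. -/
noncomputable def perm : Equiv.Perm (Fin 12) →* (V ≃ₗ[F] V) where
  toFun σ := Classical.choose (w.exists_equiv σ)
  map_one' := w.ext' fun i j => Classical.choose_spec (w.exists_equiv 1) i j
  map_mul' σ τ := w.ext' fun i j => by
    rw [Classical.choose_spec (w.exists_equiv (σ * τ)) i j]
    show _ = (Classical.choose (w.exists_equiv σ)) ((Classical.choose (w.exists_equiv τ)) (W i j))
    rw [Classical.choose_spec (w.exists_equiv τ) i j, Classical.choose_spec (w.exists_equiv σ) (τ i) (τ j)]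
    rfl

theorem perm_apply (σ : Equiv.Perm (Fin 12)) (i j : Fin 12) : w.perm σ (W i j) = W (σ i) (σ j) :=
  Classical.choose_spec (w.exists_equiv σ) i j

theorem mem_rts {x : V} : x ∈ rts F (fun i : Fin 11 => W i.castSucc (Fin.last 11)) ↔ ∃ i j, i ≠ j ∧ x = W i j := by
  constructor
  · rintro (⟨i, ε, hε, rfl⟩ | ⟨i, j, hij, rfl⟩)
    · rcases hε with rfl | rfl
      · exact ⟨i.castSucc, Fin.last 11, (Fin.castSucc_lt_last i).ne, one_smul _ _⟩
      · refine ⟨Fin.last 11, i.castSucc, (Fin.castSucc_lt_last i).ne', ?_⟩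
        rw [neg_one_smul, w.neg]
    · exact ⟨i.castSucc, j.castSucc, fun h => hij (Fin.castSucc_injective 11 h), (w.eq_sub _ _ _).symm⟩
  · rintro ⟨i, j, hij, rfl⟩
    induction i using Fin.lastCases with
    | last =>
      induction j using Fin.lastCases with
      | last => exact absurd rfl hij
      | cast j => exact Or.inl ⟨j, -1, Or.inr rfl, by rw [neg_one_smul, w.neg]⟩
    | cast i =>
      induction j using Fin.lastCases with
      | last => exact Or.inl ⟨i, 1, Or.inl rfl, (one_smul _ _).symm⟩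
      | cast j =>
        exact Or.inr ⟨i, j, fun h => hij (by rw [h]), w.eq_sub _ _ _⟩

section form

variable {Q : QuadraticForm F V} {a : F} (hQ : ∀ i j, i ≠ j → Q (W i j) = a)

include hQ

theorem polar_eq {i j z : Fin 12} (hij : i ≠ j) (hiz : i ≠ z) (hjz : j ≠ z) : polar Q (W i z) (W j z) = a := by
  have h1 : Q (W i j) = a := hQ i j hij
  rw [w.eq_sub i j z, sub_eq_add_neg, Q_add, QuadraticMap.map_neg, QuadraticMap.polar_neg_right, hQ i z hiz,
    hQ j z hjz] at h1
  linear_combination -h1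

theorem gr : Gr Q (fun i : Fin 11 => W i.castSucc (Fin.last 11)) a := fun i j hij =>
  w.polar_eq hQ (fun h => hij (Fin.castSucc_injective 11 h)) (Fin.castSucc_lt_last i).ne (Fin.castSucc_lt_last j).ne

theorem q_sys (i : Fin 11) : Q (W i.castSucc (Fin.last 11)) = a := hQ _ _ (Fin.castSucc_lt_last i).ne

theorem perm_mem_O (σ : Equiv.Perm (Fin 12)) : w.perm σ ∈ O Q := by
  have hp : ∀ x y, polar Q (w.perm σ x) (w.perm σ y) = polar Q x y := polar_map_eq w.sys (w.gr hQ) fun i j => by
    rw [w.perm_apply, w.perm_apply]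
    by_cases hij : i = j
    · subst hij
      rw [polar_self', polar_self', w.q_sys hQ, hQ _ _ fun h => (Fin.castSucc_lt_last i).ne (σ.injective h)]
    · rw [w.gr hQ i j hij]
      exact w.polar_eq hQ (fun h => hij (Fin.castSucc_injective 11 (σ.injective h)))
        (fun h => (Fin.castSucc_lt_last i).ne (σ.injective h)) (fun h => (Fin.castSucc_lt_last j).ne (σ.injective h))
  intro x
  have hx : x ∈ Submodule.span F (Set.range fun i : Fin 11 => W i.castSucc (Fin.last 11)) := by
    rw [w.sys.span]; trivial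
  induction hx using Submodule.span_induction with
  | mem u hu =>
    obtain ⟨i, rfl⟩ := hu
    change Q (w.perm σ (W i.castSucc (Fin.last 11))) = Q (W i.castSucc (Fin.last 11))
    rw [w.perm_apply, w.q_sys hQ, hQ _ _ fun h => (Fin.castSucc_lt_last i).ne (σ.injective h)]
  | zero => rw [map_zero]
  | add b c _ _ hb hc => rw [map_add, Q_add, hb, hc, hp, ← Q_add]
  | smul c b _ hb => rw [map_smul, QuadraticMap.map_smul, hb, ← QuadraticMap.map_smul]

theorem perm_mem_stabR (σ : Equiv.Perm (Fin 12)) :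
    w.perm σ ∈ stabR Q (fun i : Fin 11 => W i.castSucc (Fin.last 11)) := by
  have h : ∀ σ : Equiv.Perm (Fin 12), ∀ x ∈ rts F (fun i : Fin 11 => W i.castSucc (Fin.last 11)),
      w.perm σ x ∈ rts F (fun i : Fin 11 => W i.castSucc (Fin.last 11)) := by
    intro σ x hx
    obtain ⟨i, j, hij, rfl⟩ := w.mem_rts.1 hx
    rw [w.perm_apply]
    exact w.mem_rts.2 ⟨_, _, fun h => hij (σ.injective h), rfl⟩
  refine mem_stabR_of (w.perm_mem_O hQ σ) (h σ) fun x hx => ?_
  rw [← map_inv]
  exact h σ⁻¹ x hx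

theorem alt_le_E (hG : Good Q) : (alternatingGroup (Fin 12)).map w.perm ≤ E Q := by
  rw [← hG.commutator_eq_E, ← alternatingGroup.commutator_perm_eq (α := Fin 12) (by simp), commutator_def,
    Subgroup.map_commutator]
  refine Subgroup.commutator_mono ?_ ?_ <;>
  · rintro _ ⟨σ, -, rfl⟩
    exact w.perm_mem_O hQ σ

end form

/-- **Abstract form.** -/
theorem equiv_alt {Q : QuadraticForm F V} {a : F} (hG : Good Q) (hQ : ∀ i j, i ≠ j → Q (W i j) = a) (h23 : (2 : F) = 0 ∨ (3 : F) = 0)
    {P H : Subgroup (V ≃ₗ[F] V)} (hH : Cfsg.Geo.IsMaximalIn (E Q) H) (_hPH : P ≤ H)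
    (hn : ∀ h ∈ H, ∀ x ∈ P, h * x * h⁻¹ ∈ P) (hp : ⁅P, P⁆ = P) (hne : P ≠ ⊥)
    (hPW : ∀ g ∈ P, ∃ σ : Equiv.Perm (Fin 12), ∀ i j, g (W i j) = W (σ i) (σ j))
    (hHW : ∀ h ∈ H, ∀ i j, i ≠ j → ∃ k l, k ≠ l ∧ h (W i j) = W k l) :
    Nonempty (P ≃* alternatingGroup (Fin 12)) := by
  set v : Fin 11 → V := fun i : Fin 11 => W i.castSucc (Fin.last 11) with hv
  have S : Sys F v := w.sys
  have hHR : H ≤ stabR Q v := by
    have h1 : ∀ h ∈ H, ∀ x ∈ rts F v, h x ∈ rts F v := by
      intro h hh x hx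
      obtain ⟨i, j, hij, rfl⟩ := w.mem_rts.1 hx
      obtain ⟨k, l, hkl, e⟩ := hHW h hh i j hij
      rw [e]
      exact w.mem_rts.2 ⟨k, l, hkl, rfl⟩
    exact fun h hh => mem_stabR_of (E_le_O (hH.1.le hh)) (h1 h hh) (h1 h⁻¹ (inv_mem hh))
  have hHE : stabR Q v ⊓ E Q = H := by
    rcases hH.2 _ (le_inf hHR hH.1.le) inf_le_right with h | h
    · exact h
    · exact absurd (inf_eq_right.1 h) (not_E_le_stabR' S (w.gr hQ) (w.q_sys hQ) hG h23 (by rw [Fintype.card_fin]; norm_num))
  have hAH : (alternatingGroup (Fin 12)).map w.perm ≤ H := by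
    rw [← hHE]
    refine le_inf ?_ (w.alt_le_E hQ hG)
    rintro _ ⟨σ, -, rfl⟩
    exact w.perm_mem_stabR hQ σ
  have hPA : P ≤ (alternatingGroup (Fin 12)).map w.perm := by
    have h1 : P ≤ (⊤ : Subgroup (Equiv.Perm (Fin 12))).map w.perm := by
      intro g hg
      obtain ⟨σ, hσ⟩ := hPW g hg
      exact ⟨σ, trivial, w.ext' fun i j => by rw [w.perm_apply, hσ]⟩
    rw [← hp]
    refine (Subgroup.commutator_mono h1 h1).trans ?_
    rw [← Subgroup.map_commutator, ← commutator_def, alternatingGroup.commutator_perm_eq (α := Fin 12) (by simp)]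
  let f : alternatingGroup (Fin 12) →* (V ≃ₗ[F] V) := w.perm.comp (alternatingGroup (Fin 12)).subtype
  have hf : ∀ σ, f σ ∈ (alternatingGroup (Fin 12)).map w.perm := fun σ => ⟨σ, σ.2, rfl⟩
  have hN : (P.comap f).Normal := by
    constructor
    intro n hn' g
    rw [Subgroup.mem_comap, map_mul, map_mul, map_inv]
    exact hn _ (hAH (hf g)) _ hn'
  have hs : IsSimpleGroup (alternatingGroup (Fin 12)) := alternatingGroup.isSimpleGroup (by simp)
  have hPe : P = (alternatingGroup (Fin 12)).map w.perm := by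
    refine le_antisymm hPA ?_
    rcases hs.eq_bot_or_eq_top_of_normal _ hN with h | h
    · exfalso
      apply hne
      rw [Subgroup.eq_bot_iff_forall]
      intro x hx
      obtain ⟨σ, hσ, rfl⟩ := hPA hx
      have h1 : (⟨σ, hσ⟩ : alternatingGroup (Fin 12)) ∈ P.comap f := hx
      rw [h, Subgroup.mem_bot] at h1
      have h3 : σ = 1 := congrArg Subtype.val h1
      rw [h3, map_one]
    · rintro _ ⟨σ, hσ, rfl⟩
      have h1 : (⟨σ, hσ⟩ : alternatingGroup (Fin 12)) ∈ P.comap f := by rw [h]; trivial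
      exact h1
  have hfr : (alternatingGroup (Fin 12)).map w.perm = f.range := by
    rw [MonoidHom.range_comp, Subgroup.range_subtype]
  have hinj : Function.Injective f := by
    rw [← MonoidHom.ker_eq_bot_iff]
    rcases hs.eq_bot_or_eq_top_of_normal _ (MonoidHom.normal_ker f) with h | h
    · exact h
    · exfalso
      apply hne
      rw [hPe, hfr, Subgroup.eq_bot_iff_forall]
      rintro _ ⟨x, rfl⟩
      have h1 : x ∈ f.ker := by rw [h]; trivial
      exact h1
  exact ⟨(MulEquiv.subgroupCongr (hPe.trans hfr)).trans (MonoidHom.ofInjective hinj).symm⟩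

end W12

end abs

open Cfsg Cfsg.Geo Matrix Cfsg.Agent.H915.LD

universe u

/-- **The matrix form.** `W i j` = `e_i - e_j` in the heart of the permutation module of degree 12. -/
theorem Cx.twelve {F : Type u} [Field F] [Finite F] {p : ℕ} {Q : (Fin 10 → F) → F} {H P : Subgroup (GL (Fin 10) F)}
    (h : Cx p Q H P) (h23 : (2 : F) = 0 ∨ (3 : F) = 0) {W : Fin 12 → Fin 12 → (Fin 10 → F)}
    (hadd : ∀ i j k, W i j + W j k = W i k) (hne : ∃ i j, W i j ≠ 0)
    (hPW : ∀ g ∈ P, ∃ σ : Equiv.Perm (Fin 12), ∀ i j, (g : Matrix (Fin 10) (Fin 10) F) *ᵥ W i j = W (σ i) (σ j))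
    (htr : ∀ i j k l, i ≠ j → k ≠ l → ∃ g ∈ P, (g : Matrix (Fin 10) (Fin 10) F) *ᵥ W i j = W k l)
    (hHW : ∀ x ∈ H, ∀ i j, i ≠ j → ∃ k l, k ≠ l ∧ (x : Matrix (Fin 10) (Fin 10) F) *ᵥ W i j = W k l) :
    Nonempty (Soc P ≃* alternatingGroup (Fin 12)) := by
  obtain ⟨R, hR, hRn⟩ := H883.Bridge.exists_quadraticForm h.hQ
  have hG : Good R := H883.Bridge.good_of_card hRn (by rw [Fintype.card_fin]; norm_num)
  have hHR : IsMaximalIn (omegaGL (R : (Fin 10 → F) → F)) H := by rw [hR]; exact h.hH
  have hC := h.core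
  have h12 : (12 : F) = 0 := by
    rcases h23 with h | h
    · linear_combination 6 * h
    · linear_combination 4 * h
  have hself : ∀ i, W i i = 0 := fun i => by
    have := hadd i i i
    rwa [add_eq_left] at this
  have hw : W12 F W :=
    { add := hadd
      sum := by
        have hc : ∀ z z', ∑ j, W j z = ∑ j, W j z' := by
          intro z z'
          rw [← sub_eq_zero, ← Finset.sum_sub_distrib]
          have h1 : ∀ j, W j z - W j z' = W z' z := by
            intro j
            rw [sub_eq_iff_eq_add, add_comm, hadd]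
          rw [Finset.sum_congr rfl fun j _ => h1 j, Finset.sum_const, Finset.card_univ, Fintype.card_fin,
            ← Nat.cast_smul_eq_nsmul F, show ((12 : ℕ) : F) = 0 by exact_mod_cast h12, zero_smul]
        intro z
        by_contra hz
        refine H879.TL.no_fixed_vector hC hz fun g hg => ?_
        obtain ⟨σ, hσ⟩ := hPW g hg
        rw [← Matrix.toLin'_apply, map_sum]
        simp only [Matrix.toLin'_apply, hσ]
        rw [Equiv.sum_comp σ fun j => W j (σ z), hc _ z]
      span := by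
        rcases hC.absIrred.1 (Submodule.span F (Set.range fun x : Fin 12 × Fin 12 => W x.1 x.2)) (by
          rintro _ ⟨g, hg, rfl⟩
          rw [Submodule.map_span_le]
          rintro _ ⟨⟨i, j⟩, rfl⟩
          obtain ⟨σ, hσ⟩ := hPW g hg
          rw [Matrix.toLin'_apply]
          change (g : Matrix (Fin 10) (Fin 10) F) *ᵥ W i j ∈ _
          rw [hσ]
          exact Submodule.subset_span ⟨(σ i, σ j), rfl⟩) with h1 | h1
        · exfalso
          obtain ⟨i, j, hij⟩ := hne
          exact hij ((Submodule.mem_bot F).1 (h1 ▸ Submodule.subset_span ⟨(i, j), rfl⟩))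
        · exact h1
      dim := by simp }
  obtain ⟨a, ha⟩ : ∃ a, ∀ i j, i ≠ j → R (W i j) = a := by
    refine ⟨R (W 0 1), fun i j hij => ?_⟩
    obtain ⟨g, hg, e⟩ := htr 0 1 i j (by decide) hij
    rw [← e, hR]
    exact fix_of_mem_omegaGL (h.le_omega hg) _
  let E0 := glEquiv (Fin 10) F
  have hap : ∀ (g : GL (Fin 10) F) (v : Fin 10 → F), E0 g v = (g : Matrix (Fin 10) (Fin 10) F) *ᵥ v :=
    fun g v => glEquiv_apply g v
  let P' : Subgroup ((Fin 10 → F) ≃ₗ[F] (Fin 10 → F)) := P.map E0.toMonoidHom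
  let H' : Subgroup ((Fin 10 → F) ≃ₗ[F] (Fin 10 → F)) := H.map E0.toMonoidHom
  let eP : P ≃* P' := E0.subgroupMap P
  have hH' : IsMaximalIn (E R) H' := by
    have h1 := (H883.Bridge.isMaximalIn_map_iff E0 (omegaGL (R : (Fin 10 → F) → F)) H).2 hHR
    rwa [H883.Bridge.map_omegaGL_eq_E hG] at h1
  obtain ⟨e⟩ := hw.equiv_alt (P := P') (H := H') hG ha h23 hH' (Subgroup.map_mono h.hc.le)
    (by
      rintro _ ⟨y, hy, rfl⟩ _ ⟨x, hx, rfl⟩
      refine ⟨y * x * y⁻¹, h.hc.normal y hy x hx, ?_⟩
      simp)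
    (by
      change ⁅P.map E0.toMonoidHom, P.map E0.toMonoidHom⁆ = _
      rw [← Subgroup.map_commutator, h.hc.perfect])
    (by
      intro hb
      have h1 : P = ⊥ := (Subgroup.map_eq_bot_iff_of_injective P (f := E0.toMonoidHom) E0.injective).1 hb
      subst h1
      exact hC.nonabelian ⟨⟨fun a b => by
        induction a using QuotientGroup.induction_on with
        | H a =>
          induction b using QuotientGroup.induction_on with
          | H b => rw [Subsingleton.elim a b]⟩⟩)
    (by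
      rintro _ ⟨g, hg, rfl⟩
      obtain ⟨σ, hσ⟩ := hPW g hg
      refine ⟨σ, fun i j => ?_⟩
      change E0 g (W i j) = _
      rw [hap, hσ])
    (by
      rintro _ ⟨x, hx, rfl⟩ i j hij
      obtain ⟨k, l, hkl, e⟩ := hHW x hx i j hij
      refine ⟨k, l, hkl, ?_⟩
      change E0 x (W i j) = _
      rw [hap, e])
  exact soc_equiv hC (alternatingGroup.isSimpleGroup (by simp)) (eP.trans e)

end Cfsg.Agent.H933.O10
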