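import Cfsg.Agent.H933.O10.Base

/-!
# Isometries of order eleven in dimension ten (helper933)

`no_fixed_eleven` : `x` an isometry of a nondegenerate quadratic form on `F^10`, `x ^ 11 = 1`, `x ≠ 1`,
`y x y⁻¹ = x ^ 3` for some `y ∈ GL_10(F)`, `11 ≠ 0` in `F`: `x` has no non-zero fixed vector.
-/

set_option autoImplicit false
set_option linter.unusedSectionVars false

namespace Cfsg.Agent.H933.O10

open Cfsg Cfsg.Geo Matrix Module Cfsg.Agent.H915.LD

universe u v

section ev

variable {K : Type v} [Field K] {ι : Type} [Fintype ι] [DecidableEq ι]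

/-- `c` is an eigenvalue of `A` -/
def Ev (A : Matrix ι ι K) (c : K) : Prop := ∃ v : ι → K, v ≠ 0 ∧ A *ᵥ v = c • v

theorem ev_iff_det {A : Matrix ι ι K} {c : K} : Ev A c ↔ (A - c • 1).det = 0 := by
  rw [← Matrix.exists_mulVec_eq_zero_iff]
  refine exists_congr fun v => and_congr_right fun _ => ?_
  rw [sub_mulVec, smul_mulVec, one_mulVec, sub_eq_zero]

theorem ev_transpose {A : Matrix ι ι K} {c : K} : Ev Aᵀ c ↔ Ev A c := by
  rw [ev_iff_det, ev_iff_det, ← Matrix.det_transpose, transpose_sub, transpose_transpose, transpose_smul,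
    transpose_one]

theorem ev_pow {A : Matrix ι ι K} {c : K} {v : ι → K} (h : A *ᵥ v = c • v) (n : ℕ) : (A ^ n) *ᵥ v = c ^ n • v := by
  induction n with
  | zero => rw [pow_zero, pow_zero, one_mulVec, one_smul]
  | succ n ih => rw [pow_succ, ← mulVec_mulVec, h, mulVec_smul, ih, smul_smul, pow_succ']

/-- an isometry of a nondegenerate bilinear form: eigenvalues come in inverse pairs -/
theorem ev_inv {A M : Matrix ι ι K} (hM : IsUnit M) (h : Aᵀ * M * A = M) {c : K} (hc : c ≠ 0) (hev : Ev A c) :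
    Ev A c⁻¹ := by
  obtain ⟨v, hv, hAv⟩ := hev
  rw [← ev_transpose]
  refine ⟨M *ᵥ v, ?_, ?_⟩
  · intro h0
    obtain ⟨N, rfl⟩ := hM
    apply hv
    rw [← one_mulVec v, ← N.inv_mul, ← mulVec_mulVec, h0, mulVec_zero]
  · have h1 : (Aᵀ * M * A) *ᵥ v = M *ᵥ v := by rw [h]
    rw [← mulVec_mulVec, hAv, mulVec_smul, ← mulVec_mulVec] at h1
    conv_rhs => rw [← h1]
    rw [smul_smul, inv_mul_cancel₀ hc, one_smul]

theorem ev_conj {A B : Matrix ι ι K} (hB : IsUnit B) (hBA : B * A = A ^ 3 * B) (hA : A ^ 11 = 1) {c : K} (hev : Ev A c) :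
    Ev A (c ^ 4) := by
  obtain ⟨v, hv, hAv⟩ := hev
  refine ⟨B *ᵥ v, ?_, ?_⟩
  · intro h0
    obtain ⟨N, rfl⟩ := hB
    apply hv
    rw [← one_mulVec v, ← N.inv_mul, ← mulVec_mulVec, h0, mulVec_zero]
  · have h1 : (A ^ 3) *ᵥ (B *ᵥ v) = c • (B *ᵥ v) := by
      rw [mulVec_mulVec, ← hBA, ← mulVec_mulVec, hAv, mulVec_smul]
    have h2 := ev_pow h1 4
    rw [← pow_mul, show 3 * 4 = 11 + 1 by norm_num, pow_succ, hA, Matrix.one_mul] at h2
    exact h2

theorem ev_eleven {A : Matrix ι ι K} (hA : A ^ 11 = 1) {c : K} (hev : Ev A c) : c ^ 11 = 1 := by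
  obtain ⟨v, hv, hAv⟩ := hev
  have h := ev_pow hAv 11
  rw [hA, one_mulVec] at h
  have h2 : (c ^ 11 - 1) • v = 0 := by rw [sub_smul, one_smul, ← h, sub_self]
  exact sub_eq_zero.1 ((smul_eq_zero.1 h2).resolve_right hv)

theorem exists_ev [IsAlgClosed K] (h11 : (11 : K) ≠ 0) {A : Matrix ι ι K} (hA : A ^ 11 = 1) (hA1 : A ≠ 1) :
    ∃ c : K, c ≠ 1 ∧ Ev A c := by
  set X : Module.End K (ι → K) := Matrix.toLin' A with hX
  have hXa : ∀ v, X v = A *ᵥ v := fun v => Matrix.toLin'_apply _ _
  set W : Submodule K (ι → K) := LinearMap.range (X - 1) with hW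
  have hXW : ∀ w ∈ W, X w ∈ W := by
    rintro _ ⟨v, rfl⟩
    exact ⟨X v, by simp [LinearMap.sub_apply, map_sub]⟩
  have hne : Nontrivial W := by
    rw [Submodule.nontrivial_iff_ne_bot]
    intro h0
    rw [hW, LinearMap.range_eq_bot, sub_eq_zero] at h0
    apply hA1
    apply Matrix.toLin'.injective
    rw [← hX, h0, Matrix.toLin'_one]
    rfl
  obtain ⟨c, hc⟩ := Module.End.exists_eigenvalue (X.restrict hXW)
  obtain ⟨w, hw, hw0⟩ := hc.exists_hasEigenvector
  rw [Module.End.mem_eigenspace_iff] at hw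
  have h1 : A *ᵥ (w : ι → K) = c • (w : ι → K) := by
    rw [← hXa]
    exact congrArg Subtype.val hw
  refine ⟨c, ?_, (w : ι → K), fun h => hw0 (Subtype.ext h), h1⟩
  rintro rfl
  rw [one_smul] at h1
  obtain ⟨v, hv⟩ := w.2
  have hv' : A *ᵥ v - v = (w : ι → K) := by
    rw [← hv, LinearMap.sub_apply, hXa]
    rfl
  have h2 : ∀ n : ℕ, (A ^ n) *ᵥ v = v + (n : K) • (w : ι → K) := by
    intro n
    induction n with
    | zero => simp
    | succ n ih =>
      rw [pow_succ', ← mulVec_mulVec, ih, mulVec_add, mulVec_smul, h1, ← hv', Nat.cast_succ, add_smul, one_smul]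
      abel
  have h3 := h2 11
  rw [hA, one_mulVec] at h3
  have h4 : ((11 : ℕ) : K) • (w : ι → K) = 0 := by
    have := h3
    rw [left_eq_add] at this
    exact this
  rcases smul_eq_zero.1 h4 with h | h
  · exact h11 (by exact_mod_cast h)
  · exact hw0 (Subtype.ext h)

theorem not_ev_one [IsAlgClosed K] (h11 : (11 : K) ≠ 0) (hι : Fintype.card ι = 10) {A B M : Matrix ι ι K}
    (hA : A ^ 11 = 1) (hA1 : A ≠ 1) (hM : IsUnit M) (h : Aᵀ * M * A = M) (hB : IsUnit B) (hBA : B * A = A ^ 3 * B) :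
    ¬ Ev A 1 := by
  intro h1
  obtain ⟨c, hc1, hc⟩ := exists_ev h11 hA hA1
  have hc11 := ev_eleven hA hc
  have hc0 : c ≠ 0 := by
    rintro rfl
    rw [zero_pow (by norm_num)] at hc11
    exact zero_ne_one hc11
  have hall : ∀ k : Fin 11, Ev A (c ^ (k : ℕ)) := by
    have e1 : Ev A (c ^ 1) := by rwa [pow_one]
    have step : ∀ m n : ℕ, Ev A (c ^ m) → (4 * m) % 11 = n → Ev A (c ^ n) := by
      intro m n hm hn
      have := ev_conj hB hBA hA hm
      rw [← pow_mul, mul_comm m 4, ← Nat.div_add_mod (4 * m) 11, pow_add, pow_mul, hc11, one_pow, one_mul, hn] at this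
      exact this
    have inv : ∀ m n : ℕ, Ev A (c ^ m) → m + n = 11 → Ev A (c ^ n) := by
      intro m n hm hmn
      have := ev_inv hM h (pow_ne_zero m hc0) hm
      have h2 : (c ^ m)⁻¹ = c ^ n := by
        exact inv_eq_of_mul_eq_one_right (by rw [← pow_add, hmn, hc11])
      rwa [h2] at this
    have e4 := step 1 4 e1 (by norm_num)
    have e5 := step 4 5 e4 (by norm_num)
    have e9 := step 5 9 e5 (by norm_num)
    have e3 := step 9 3 e9 (by norm_num)
    have e10 := inv 1 10 e1 (by norm_num)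
    have e7 := inv 4 7 e4 (by norm_num)
    have e6 := inv 5 6 e5 (by norm_num)
    have e2 := inv 9 2 e9 (by norm_num)
    have e8 := inv 3 8 e3 (by norm_num)
    intro k
    fin_cases k
    · simpa using h1
    all_goals assumption
  choose v hv0 hv using hall
  have hinj : Function.Injective fun k : Fin 11 => c ^ (k : ℕ) := by
    have hord : orderOf c = 11 := by
      have : Fact (Nat.Prime 11) := ⟨by norm_num⟩
      exact orderOf_eq_prime hc11 hc1
    intro a b hab
    exact Fin.ext (pow_injOn_Iio_orderOf (by rw [hord]; exact a.2) (by rw [hord]; exact b.2) hab)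
  have hli : LinearIndependent K v := by
    refine Module.End.eigenvectors_linearIndependent' (Matrix.toLin' A) (fun k : Fin 11 => c ^ (k : ℕ)) hinj v ?_
    intro k
    exact ⟨Module.End.mem_eigenspace_iff.2 (by rw [Matrix.toLin'_apply]; exact hv k), hv0 k⟩
  have h3 := hli.fintype_card_le_finrank
  rw [Fintype.card_fin, Module.finrank_fintype_fun_eq_card, hι] at h3
  omega

end ev

variable {F : Type u} [Field F] {ι : Type} [Fintype ι] [DecidableEq ι]

/-- **No fixed vectors.** -/
theorem no_fixed_eleven (hι : Fintype.card ι = 10) (h11 : (11 : F) ≠ 0) {Q : (ι → F) → F}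
    (hQ : IsNondegenerateQuadraticForm Q) {x y : GL ι F} (hx : x ∈ omegaGL Q) (hx11 : x ^ 11 = 1) (hx1 : x ≠ 1)
    (hxy : y * x * y⁻¹ = x ^ 3) (v : ι → F) (hv : (x : Matrix ι ι F) *ᵥ v = v) : v = 0 := by
  by_contra hv0
  let φ : Matrix ι ι F →+* Matrix ι ι (AlgebraicClosure F) := (algebraMap F (AlgebraicClosure F)).mapMatrix
  have hφ : Function.Injective φ := by
    intro a b hab
    ext i j
    apply (algebraMap F (AlgebraicClosure F)).injective
    exact congrFun (congrFun hab i) j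
  have hmat : (x : Matrix ι ι F) ^ 11 = 1 := by
    rw [← Units.val_pow_eq_pow_val, hx11, Units.val_one]
  refine not_ev_one (K := AlgebraicClosure F) (ι := ι) (A := φ x) (B := φ y)
    (M := φ (gramMatrix (QuadraticMap.polar Q))) ?_ hι ?_ ?_ ?_ ?_ ?_ ?_ ?_
  · intro h
    apply h11
    apply (algebraMap F (AlgebraicClosure F)).injective
    rw [map_ofNat, map_zero, h]
  · rw [← map_pow, hmat, map_one]
  · intro h
    apply hx1
    apply Units.ext
    apply hφ
    rw [h, Units.val_one, map_one]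
  · exact (isUnit_gram hQ).map φ
  · have h1 := congrArg φ (gram_conj hQ hx)
    rw [map_mul, map_mul] at h1
    exact h1
  · exact (Units.isUnit y).map φ
  · rw [← map_pow, ← map_mul, ← map_mul]
    congr 1
    have h1 : y * x = x ^ 3 * y := by rw [← hxy]; group
    have h2 := congrArg (fun g : GL ι F => (g : Matrix ι ι F)) h1
    simpa using h2
  · refine ⟨fun i => algebraMap F (AlgebraicClosure F) (v i), ?_, ?_⟩
    · intro h0
      apply hv0
      funext i
      apply (algebraMap F (AlgebraicClosure F)).injective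
      rw [congrFun h0 i]
      simp
    · rw [one_smul]
      funext i
      have h1 := congrArg (algebraMap F (AlgebraicClosure F)) (congrFun hv i)
      rw [← h1]
      simp only [mulVec, dotProduct, map_sum, map_mul]
      rfl

end Cfsg.Agent.H933.O10
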