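import Cfsg.Agent.H933.O10.Type
import Cfsg.Agent.H464.L2Num
import Cfsg.Agent.H830.Sl2Type

/-!
# The rows `L₂(q)` of S5848 and S5851, cross characteristic (helper933)
-/

set_option autoImplicit false
set_option linter.unusedSectionVars false

namespace Cfsg.Agent.H933.O10

open Cfsg Cfsg.Geo Matrix Cfsg.Agent.H915.LD Cfsg.Agent.H464.Sl2

universe u v

variable {F : Type u} [Field F] [Fintype F] {p : ℕ} {Q : (Fin 10 → F) → F} {H P : Subgroup (GL (Fin 10) F)}

/-- `L₂(q)`, `q = 7, 8, 11, 13, 17, 19, ...`, `p ∤ q`: only `q = 11`, and `|F| = p`, `P ∩ scalars = 1`. -/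
theorem l2_row (h : Cx p Q H P) {K : Type v} [Field K] [Fintype K] (h5 : 5 ≤ Fintype.card K)
    (h9 : Fintype.card K ≠ 9) (hpK : ¬ p ∣ Fintype.card K) (e : Soc P ≃* ProjectiveSpecialLinearGroup (Fin 2) K) :
    Fintype.card K = 11 ∧ Fintype.card F = p ∧ (scalars (Fin 10) F).subgroupOf P = ⊥ := by
  have := Fact.mk h.prime
  have := h.char
  have hC := h.core
  have hd := l2_degrees p hC h5 h9 hpK e (by rw [Fintype.card_fin]; norm_num)
  simp only [Fintype.card_fin] at hd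
  have hK : Fintype.card K = 11 ∨ Fintype.card K = 19 := by
    rcases hd with ⟨hK, hd⟩ | ⟨hK, hd⟩ | ⟨hK, hd⟩ | ⟨hK, hd⟩ | ⟨hK, hd⟩ | ⟨hK, hd⟩ | ⟨hK, hd⟩ | ⟨hK, hd⟩ | ⟨hK, hd⟩
    · exact absurd hd (by decide)
    · exact absurd hd (by decide)
    · exact absurd hd (by decide)
    · exact Or.inl hK
    · exact absurd hd (by decide)
    · exact absurd hd (by decide)
    · exact Or.inr hK
    · exact absurd hd (by decide)
    · omega
  rcases hK with hK | hK
  · have hp11 : p ≠ 11 := by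
      rintro rfl
      exact hpK (by rw [hK])
    rcases l2_11_10 p hC hK hp11 e (by rw [Fintype.card_fin]) with ⟨h1, h2⟩ | ⟨h1, h2, -⟩ | ⟨h1, h2, -⟩
    · exact ⟨hK, h2, h1⟩
    · exact absurd h.fixQ ((H830.Sl2Form.l2_type p h2 hC h5 h9 hpK e).2 h1).1
    · exact absurd h.fixQ ((H830.Sl2Form.l2_type p h2 hC h5 h9 hpK e).2 h1).1
  · have hp19 : p ≠ 19 := by
      rintro rfl
      exact hpK (by rw [hK])
    exact absurd h.sd (l2_19_10 p hC hK hp19 e (by rw [Fintype.card_fin])).2.1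

end Cfsg.Agent.H933.O10
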