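import Cfsg.Agent.H933.O10.Type
import Cfsg.Agent.H882.Del.Mat

/-!
# Deleted permutation modules with `Q (v i) = (v i, v j)`: never maximal, characteristics 2 and 3 (helper933)

The case `|ι| + 1 = 0` in characteristic 2 and 3 (helper882 has the other characteristics): the reflections in the
`v i` permute the roots `± v i`, `v i - v j`.

* `not_maximal'` : no maximal subgroup of `E Q` is contained in `SG F v`;
* `mat_main'` : `H` maximal in `omegaGL Q`, `dim = 10`, `K ≤ P` of index 11 fixes `v0 ≠ 0`, ... : `Soc P ≃ A₁₁` and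
  `11 ≠ 0`, `2 ≠ 0`, `3 ≠ 0` in `F`.
-/

set_option autoImplicit false
set_option linter.unusedSectionVars false

namespace Cfsg.Agent.H933.O10

open QuadraticMap hiding proj
open Cfsg.Agent.LieClassical.OrthCore Cfsg.Agent.LieClassical.OrthTrans Cfsg.Agent.LieClassical.OrthFinite
open Cfsg.Agent.H882.Del

section abs

variable {F : Type*} [Field F] {V : Type*} [AddCommGroup V] [Module F V]
variable {ι : Type*} [Fintype ι] [DecidableEq ι] {v : ι → V} {Q : QuadraticForm F V} {a : F}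

theorem polar_sum_left' (s : Finset ι) (y : V) : polar Q (∑ i ∈ s, v i) y = ∑ i ∈ s, polar Q (v i) y := by
  induction s using Finset.induction_on with
  | empty => simp [QuadraticMap.polar_zero_left]
  | insert b s hb ih => rw [Finset.sum_insert hb, Finset.sum_insert hb, QuadraticMap.polar_add_left, ih]

theorem map_sum_gr (hg : Gr Q v a) {b : F} (hb : ∀ i, Q (v i) = b) (s : Finset ι) :
    Q (∑ i ∈ s, v i) = (s.card : F) * b + (s.card.choose 2 : F) * a := by
  induction s using Finset.induction_on with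
  | empty => simp
  | insert c s hc ih =>
    rw [Finset.sum_insert hc, Q_add, ih, hb, polar_comm, polar_sum_left',
      Finset.sum_congr rfl (g := fun _ => a) (fun j hj => hg j c (fun h => hc (h ▸ hj))), Finset.sum_const,
      Finset.card_insert_of_notMem hc, Nat.choose_succ_succ' s.card 1, Nat.choose_one_right, nsmul_eq_mul]
    push_cast
    ring

theorem SG_le_O' (S : Sys F v) (hg : Gr Q v a) (hQv : ∀ i, Q (v i) = a) : SG F v ≤ O Q := by
  rintro g ⟨σ, ε, hε, h⟩
  have hεε : ε * ε = 1 := by rcases hε with rfl | rfl <;> simp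
  have hp : ∀ x y, polar Q (g x) (g y) = polar Q x y := polar_map_eq S hg fun i j => by
    rw [h, h, QuadraticMap.polar_smul_left, QuadraticMap.polar_smul_right, smul_eq_mul, smul_eq_mul, ← mul_assoc, hεε,
      one_mul]
    by_cases hij : i = j
    · subst hij; rw [gr_self S hg, gr_self S hg]
    · rw [hg i j hij, hg _ _ (fun h => hij (σ.injective h))]
  intro x
  have hx : x ∈ Submodule.span F (Set.range v) := by rw [S.span]; trivial
  induction hx using Submodule.span_induction with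
  | mem w hw =>
    obtain ⟨i, rfl⟩ := hw
    rw [h, QuadraticMap.map_smul, hQv, hQv, smul_eq_mul, hεε, one_mul]
  | zero => rw [map_zero]
  | add b c _ _ hb hc => rw [map_add, Q_add, hb, hc, hp, ← Q_add]
  | smul c b _ hb => rw [map_smul, QuadraticMap.map_smul, hb, ← QuadraticMap.map_smul]

/-- coefficients of the roots -/
theorem rts_coeff' {x : V} (hx : x ∈ rts F v) :
    ∃ c : ι → F, x = ∑ i, c i • v i ∧ ∃ j k, ∀ l, l ≠ j → l ≠ k → c l = 0 := by
  rcases hx with ⟨i, ε, hε, rfl⟩ | ⟨i, j, hij, rfl⟩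
  · exact ⟨Pi.single i ε, (sum_single ε i).symm, i, i, fun l hl _ => Pi.single_eq_of_ne hl _⟩
  · refine ⟨Pi.single i 1 - Pi.single j 1, (sum_sub_single i j).symm, i, j, fun l hl hl' => ?_⟩
    rw [Pi.sub_apply, Pi.single_eq_of_ne hl, Pi.single_eq_of_ne hl', sub_zero]

/-- a sum of at least three of the `v i` is not a root -/
theorem sum_not_mem_rts (S : Sys F v) {s : Finset ι} (h3 : 3 ≤ s.card) (hs : s.card + 3 ≤ Fintype.card ι) :
    ∑ i ∈ s, v i ∉ rts F v := by
  intro hx
  obtain ⟨c, hc, j, k, hjk⟩ := rts_coeff' hx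
  have h1 : ∑ i ∈ s, v i = ∑ i, (if i ∈ s then (1 : F) else 0) • v i := by
    simp only [ite_smul, one_smul, zero_smul, Finset.sum_ite_mem, Finset.univ_inter]
  rw [h1] at hc
  obtain ⟨l, hl⟩ : ∃ l, l ∉ s ∪ {j, k} := exists_not_mem _ (lt_of_le_of_lt (Finset.card_union_le _ _) (by
    have := Finset.card_le_two (a := j) (b := k)
    omega))
  simp only [Finset.mem_union, Finset.mem_insert, Finset.mem_singleton, not_or] at hl
  have h2 := S.eq_of_comb hc (k := l) (by rw [if_neg hl.1, hjk l hl.2.1 hl.2.2])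
  obtain ⟨i, hi, hij⟩ : ∃ i ∈ s, i ∉ ({j, k} : Finset ι) := by
    by_contra hcon
    push Not at hcon
    have h4 := Finset.card_le_card (show s ⊆ {j, k} from hcon)
    have := Finset.card_le_two (a := j) (b := k)
    omega
  simp only [Finset.mem_insert, Finset.mem_singleton, not_or] at hij
  have h5 := congrFun h2 i
  rw [if_pos hi, hjk i hij.1 hij.2] at h5
  exact one_ne_zero h5

theorem not_E_le_stabR' (S : Sys F v) (hg : Gr Q v a) (hQv : ∀ i, Q (v i) = a) (hG : Good Q)
    (h23 : (2 : F) = 0 ∨ (3 : F) = 0) (h8 : 8 ≤ Fintype.card ι) : ¬ E Q ≤ stabR Q v := by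
  intro hle
  obtain ⟨i0, -, -⟩ := S.exists_two
  have hvi : v i0 ∈ rts F v := Or.inl ⟨i0, 1, Or.inl rfl, by rw [one_smul]⟩
  have key : ∀ k : ℕ, 3 ≤ k → k + 3 ≤ Fintype.card ι → (k : F) + (k.choose 2 : F) = 1 → False := by
    intro k hk3 hk hk1
    obtain ⟨s, -, hs⟩ := Finset.exists_subset_card_eq (s := (Finset.univ : Finset ι)) (n := k) (by
      rw [Finset.card_univ]; omega)
    have hQ1 : Q (∑ i ∈ s, v i) = a := by
      rw [map_sum_gr hg hQv, hs, ← add_mul, hk1, one_mul]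
    have hne : ∑ i ∈ s, v i ≠ 0 := by
      intro h0
      apply a_ne S hg hG.nondeg
      rw [← hQ1, h0, QuadraticMap.map_zero]
    obtain ⟨g, hgE, hgv⟩ := hG.trans_norm (S.ne_zero i0) hne (by rw [hQv, hQ1])
    have h1 := ((hle hgE).2 _).1 hvi
    rw [hgv] at h1
    exact sum_not_mem_rts S (by omega) (by omega) h1
  rcases h23 with h | h
  · exact key 5 (by norm_num) (by omega) (by
      rw [show (5 : ℕ).choose 2 = 10 by decide]; push_cast; linear_combination 7 * h)
  · exact key 4 (by norm_num) (by omega) (by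
      rw [show (4 : ℕ).choose 2 = 6 by decide]; push_cast; linear_combination 3 * h)

/-- **No maximal subgroup of `E Q` is contained in `SG`.** -/
theorem not_maximal' (S : Sys F v) (hg : Gr Q v a) (hQv : ∀ i, Q (v i) = a) (hG : Good Q)
    (h23 : (2 : F) = 0 ∨ (3 : F) = 0) (h8 : 8 ≤ Fintype.card ι) {H : Subgroup (V ≃ₗ[F] V)}
    (hH : Cfsg.Geo.IsMaximalIn (E Q) H) : ¬ H ≤ SG F v := by
  intro hHS
  have ha : a ≠ 0 := a_ne S hg hG.nondeg
  have hself : ∀ i, polar Q (v i) (v i) = 2 * a := by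
    intro i
    rw [polar_self', hQv]
  have hQv' : ∀ i, Q (v i) ≠ 0 := fun i => by rw [hQv]; exact ha
  have hr1 : ∀ k, refl Q (v k) (hQv' k) (v k) = -v k := by
    intro k
    rw [refl_apply, hself, hQv]
    have e : a⁻¹ * (2 * a) = 2 := by field_simp
    rw [e, two_smul]; abel
  have hr2 : ∀ k i, k ≠ i → refl Q (v k) (hQv' k) (v i) = v i - v k := by
    intro k i hki
    rw [refl_apply, hg k i hki, hQv, inv_mul_cancel₀ ha, one_smul]
  have hmap : ∀ k, ∀ x ∈ rts F v, refl Q (v k) (hQv' k) x ∈ rts F v := by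
    intro k x hx
    rcases hx with ⟨i, ε, hε, rfl⟩ | ⟨i, j, hij, rfl⟩
    · rw [map_smul]
      refine rts_smul ?_ hε
      by_cases h : k = i
      · subst h
        rw [hr1]
        exact Or.inl ⟨k, -1, Or.inr rfl, by rw [neg_one_smul]⟩
      · rw [hr2 k i h]
        exact Or.inr ⟨i, k, Ne.symm h, rfl⟩
    · rw [map_sub]
      by_cases h : k = i
      · subst h
        rw [hr1, hr2 k j hij]
        refine Or.inl ⟨j, -1, Or.inr rfl, ?_⟩
        rw [neg_one_smul]; abel
      · by_cases h' : k = j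
        · subst h'
          rw [hr1, hr2 k i h]
          refine Or.inl ⟨i, 1, Or.inl rfl, ?_⟩
          rw [one_smul]; abel
        · rw [hr2 k i h, hr2 k j h']
          refine Or.inr ⟨i, j, hij, ?_⟩
          abel
  have hrefl : ∀ k, refl Q (v k) (hQv' k) ∈ stabR Q v := fun k =>
    mem_stabR_of (refl_mem_O _) (hmap k) (by rw [refl_inv]; exact hmap k)
  have hSG : SG F v ≤ stabR Q v := fun g hg' =>
    mem_stabR_of (SG_le_O' S hg hQv hg') (fun x hx => SG_map_rts hg' hx) (fun x hx => SG_map_rts (inv_mem hg') hx)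
  have h1 : H ≤ stabR Q v ⊓ E Q := le_inf (hHS.trans hSG) hH.1.le
  obtain ⟨i, j, hij⟩ := S.exists_two
  have hne : refl Q (v j) (hQv' j) * refl Q (v i) (hQv' i) ∈ stabR Q v ⊓ E Q :=
    ⟨mul_mem (hrefl j) (hrefl i), hG.refl_mul_refl_mem (hQv' i) (hQv' j) (by rw [hQv, hQv])⟩
  rcases hH.2 _ h1 inf_le_right with h | h
  · rw [h] at hne
    obtain ⟨σ, ε, -, hσ⟩ := hHS hne
    obtain ⟨k, hk⟩ := exists_not_mem {i, j} (lt_of_le_of_lt Finset.card_le_two (by omega))
    simp only [Finset.mem_insert, Finset.mem_singleton, not_or] at hk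
    have h4 := hσ k
    change refl Q (v j) (hQv' j) (refl Q (v i) (hQv' i) (v k)) = _ at h4
    rw [hr2 i k (Ne.symm hk.1), map_sub, hr2 j k (Ne.symm hk.2), hr2 j i (Ne.symm hij)] at h4
    have h5 : v k - v i = ε • v (σ k) := by rw [← h4]; abel
    obtain ⟨l, hl⟩ := exists_not_mem {k, i, σ k} (lt_of_le_of_lt Finset.card_le_three (by omega))
    simp only [Finset.mem_insert, Finset.mem_singleton, not_or] at hl
    have h7 := S.eq_of_comb (c := Pi.single k 1 - Pi.single i 1) (d := Pi.single (σ k) ε) (by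
      rw [sum_sub_single, sum_single, h5]) (k := l) (by
      rw [Pi.sub_apply, Pi.single_eq_of_ne hl.1, Pi.single_eq_of_ne hl.2.1, Pi.single_eq_of_ne hl.2.2, sub_zero])
    have h8 := congrFun h7 k
    have h9 := congrFun h7 i
    rw [Pi.sub_apply, Pi.single_eq_same, Pi.single_eq_of_ne hk.1, sub_zero] at h8
    rw [Pi.sub_apply, Pi.single_eq_same, Pi.single_eq_of_ne (Ne.symm hk.1), zero_sub] at h9
    by_cases hσk : σ k = k
    · rw [hσk, Pi.single_eq_of_ne (Ne.symm hk.1)] at h9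
      exact one_ne_zero (α := F) (by linear_combination -h9)
    · rw [Pi.single_eq_of_ne (Ne.symm hσk)] at h8
      exact one_ne_zero h8
  · exact not_E_le_stabR' S hg hQv hG h23 h8 (inf_eq_right.1 h)

/-- **Abstract form.** `P` irreducible on `V`, `dim V = 10`, `K ≤ P` of index 11 fixes `v0 ≠ 0`, `P = K ∪ K g K`, `P`
normal in the maximal subgroup `H` of `E Q` and `H` permutes the lines spanned by the images of `v0`: the characteristic
is neither 2 nor 3. -/
theorem char_ne [Finite F] {P H : Subgroup (V ≃ₗ[F] V)} {K : Subgroup P} {v0 : V} (hG : Good Q)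
    (hH : Cfsg.Geo.IsMaximalIn (E Q) H) (hPH : P ≤ H)
    (hn : ∀ h ∈ H, ∀ x ∈ P, h * x * h⁻¹ ∈ P) (hirr : Irr P) (hd : Module.finrank F V = 10)
    (hK : K.index = 11) (h0 : v0 ≠ 0) (hfix : ∀ k ∈ K, (k : V ≃ₗ[F] V) v0 = v0)
    (hdc : ∀ g ∉ K, ∀ g' ∉ K, ∃ k ∈ K, ∃ k' ∈ K, g' = k * g * k') (hl : Lines P H v0) :
    (11 : F) ≠ 0 ∧ (2 : F) ≠ 0 ∧ (3 : F) ≠ 0 := by
  classical
  have hfinV : Module.Finite F V := Module.finite_of_finrank_pos (by omega)
  have : Finite V := Module.finite_of_finite F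
  have : Finite (V ≃ₗ[F] V) := by
    refine Finite.of_injective (fun f : V ≃ₗ[F] V => (f : V → V)) ?_
    intro f g hfg
    exact LinearEquiv.ext fun x => congrFun hfg x
  have : Fintype (P ⧸ K) := Fintype.ofFinite _
  have S : Sys F (orb P K v0) := sys_orb hirr (by rw [hK, hd]) (by omega) h0 hfix
  have hcard : Fintype.card (P ⧸ K) = 11 := by rw [S.card, hd]
  have hPO : P ≤ O Q := (hPH.trans hH.1.le).trans E_le_O
  obtain ⟨a, hg⟩ := gr_orb (K := K) (v0 := v0) hPO hfix hdc
  have ha : a ≠ 0 := a_ne S hg hG.nondeg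
  have hSG : H ≤ SG F (orb P K v0) := le_SG S hg ha (by omega) (hH.1.le.trans E_le_O) hfix hn hl
  have h11 : (11 : F) ≠ 0 := by
    have h1 := card_ne S hg hG.nondeg (by omega)
    rw [hcard] at h1
    exact_mod_cast h1
  have hQb : ∀ i, Q (orb P K v0 i) = Q v0 := by
    intro i
    induction i using QuotientGroup.induction_on with
    | H g => rw [orb_mk hfix]; exact hPO g.2 v0
  have hsum := map_sum_gr hg hQb Finset.univ
  rw [S.sum, QuadraticMap.map_zero, Finset.card_univ, hcard, show (11 : ℕ).choose 2 = 55 by decide] at hsum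
  have hb : Q v0 = -5 * a := by
    have h2 : (11 : F) * (Q v0 + 5 * a) = 0 := by
      push_cast at hsum
      linear_combination -hsum
    have h3 := (mul_eq_zero.1 h2).resolve_left h11
    linear_combination h3
  refine ⟨h11, fun h2 => ?_, fun h3 => ?_⟩
  · refine not_maximal' S hg (fun i => ?_) hG (Or.inl h2) (by omega) hH hSG
    rw [hQb, hb]
    linear_combination (-3 * a) * h2
  · refine not_maximal' S hg (fun i => ?_) hG (Or.inr h3) (by omega) hH hSG
    rw [hQb, hb]
    linear_combination (-2 * a) * h3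

end abs

open Cfsg Cfsg.Geo Matrix Cfsg.Agent.H915.LD

universe u

/-- **The matrix form.** -/
theorem Cx.eleven {F : Type u} [Field F] [Finite F] {p : ℕ} {Q : (Fin 10 → F) → F} {H P : Subgroup (GL (Fin 10) F)}
    (h : Cx p Q H P)
    {K : Subgroup P} (hK : K.index = 11) {v0 : Fin 10 → F} (h0 : v0 ≠ 0)
    (hfix : ∀ k ∈ K, ((k : GL (Fin 10) F) : Matrix (Fin 10) (Fin 10) F) *ᵥ v0 = v0)
    (hdc : ∀ g ∉ K, ∀ g' ∉ K, ∃ k ∈ K, ∃ k' ∈ K, g' = k * g * k')
    (hl : ∀ x ∈ H, ∃ g ∈ P, ∃ c : F, (x : Matrix (Fin 10) (Fin 10) F) *ᵥ v0 =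
      c • ((g : Matrix (Fin 10) (Fin 10) F) *ᵥ v0)) :
    Nonempty (Soc P ≃* alternatingGroup (Fin 11)) ∧ (11 : F) ≠ 0 ∧ (2 : F) ≠ 0 ∧ (3 : F) ≠ 0 := by
  obtain ⟨R, hR, hRn⟩ := H883.Bridge.exists_quadraticForm h.hQ
  have hG : Good R := H883.Bridge.good_of_card hRn (by rw [Fintype.card_fin]; norm_num)
  have hHR : IsMaximalIn (omegaGL (R : (Fin 10 → F) → F)) H := by rw [hR]; exact h.hH
  have hC := h.core
  let E0 := glEquiv (Fin 10) F
  have hap : ∀ (g : GL (Fin 10) F) (v : Fin 10 → F), E0 g v = (g : Matrix (Fin 10) (Fin 10) F) *ᵥ v :=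
    fun g v => glEquiv_apply g v
  let P' : Subgroup ((Fin 10 → F) ≃ₗ[F] (Fin 10 → F)) := P.map E0.toMonoidHom
  let H' : Subgroup ((Fin 10 → F) ≃ₗ[F] (Fin 10 → F)) := H.map E0.toMonoidHom
  let eP : P ≃* P' := E0.subgroupMap P
  have heP : ∀ g : P, ((eP g : P') : (Fin 10 → F) ≃ₗ[F] (Fin 10 → F)) = E0 (g : GL (Fin 10) F) := fun _ => rfl
  let K' : Subgroup P' := K.map eP.toMonoidHom
  have hKmem : ∀ g : P, eP g ∈ K' ↔ g ∈ K := fun g => Subgroup.mem_map_iff_mem eP.injective
  have hsurj : ∀ g' : P', ∃ g : P, eP g = g' := eP.surjective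
  have hH' : IsMaximalIn (E R) H' := by
    have h1 := (H883.Bridge.isMaximalIn_map_iff E0 (omegaGL (R : (Fin 10 → F) → F)) H).2 hHR
    rwa [H883.Bridge.map_omegaGL_eq_E hG] at h1
  have hfin : Module.finrank F (Fin 10 → F) = 10 := by simp
  obtain ⟨h11, h2, h3⟩ := char_ne (P := P') (H := H') (K := K') (v0 := v0) (Q := R) hG hH'
    (Subgroup.map_mono h.hc.le)
    (by
      rintro _ ⟨y, hy, rfl⟩ _ ⟨x, hx, rfl⟩
      refine ⟨y * x * y⁻¹, h.hc.normal y hy x hx, ?_⟩
      simp)
    (by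
      intro W hW
      refine hC.absIrred.1 W fun s hs => ?_
      obtain ⟨g, hg, rfl⟩ := hs
      rintro _ ⟨w, hw, rfl⟩
      have := hW (E0 g) ⟨g, hg, rfl⟩ w hw
      rw [hap] at this
      rwa [Matrix.toLin'_apply])
    hfin
    (by
      rw [← hK]
      exact Subgroup.index_map_equiv K eP)
    h0
    (by
      intro k hk
      obtain ⟨g, rfl⟩ := hsurj k
      rw [heP, hap]
      exact hfix g ((hKmem g).1 hk))
    (by
      intro g hg g' hg'
      obtain ⟨g, rfl⟩ := hsurj g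
      obtain ⟨g', rfl⟩ := hsurj g'
      rw [hKmem] at hg hg'
      obtain ⟨k, hk, k', hk', e⟩ := hdc g hg g' hg'
      exact ⟨eP k, (hKmem k).2 hk, eP k', (hKmem k').2 hk', by rw [e, map_mul, map_mul]⟩)
    (by
      rintro _ ⟨x, hx, rfl⟩
      obtain ⟨g, hg, c, e⟩ := hl x hx
      refine ⟨E0 g, ⟨g, hg, rfl⟩, c, ?_⟩
      change E0 x v0 = c • E0 g v0
      rw [hap, hap, e])
  refine ⟨?_, h11, h2, h3⟩
  have h4 := mat_main h2 hRn (by rw [Fintype.card_fin]; norm_num) hHR h.hc (K := K)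
    (by rw [hK, Fintype.card_fin]) h0 hfix hdc hl (m := 11) (by rw [Fintype.card_fin])
  exact h4.1

end Cfsg.Agent.H933.O10
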