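import Cfsg.Agent.H933.O10.Type
import Cfsg.Agent.H395.SixMTwoTwo

/-!
# Elements of order 11 in `M₂₂` (helper933)
-/

set_option autoImplicit false

namespace Cfsg.Agent.H933.O10

open Cfsg Cfsg.Agent.SporadicA.GolayBase Cfsg.Agent.SporadicA.GolayPerm Cfsg.Agent.SporadicStructure.M24El
open Cfsg.Agent.H395.Six.MTwoTwo

def Px : ℕ := 983435072843990828779021698901151808
def Pyy : ℕ := 970459361523271695787015306425278496

theorem fPx : fx Px = true := by decide +kernel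
theorem fPyy : fx Pyy = true := by decide +kernel

theorem m22_eleven : ∃ X Y : Spor.M22, X ^ 11 = 1 ∧ X ≠ 1 ∧ Y * X * Y⁻¹ = X ^ 3 := by
  have o1 := ok_of_fx fPx
  have o2 := ok_of_fx fPyy
  have e2 : el Px * el Px = el (pcomp Px Px) := (el_pcomp o1 o1).symm
  have o3 := ok_pcomp o1 o1
  have e3 : el (pcomp Px Px) * el Px = el (pcomp (pcomp Px Px) Px) := (el_pcomp o3 o1).symm
  have o4 := ok_pcomp o3 o1
  have hx3 : (el Px) ^ 3 = el (pcomp (pcomp Px Px) Px) := by rw [pow_succ, pow_two, e2, e3]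
  have h1 : (el Px) ^ 11 = 1 := by
    have o5 := ok_pcomp o4 o4
    have o6 := ok_pcomp o5 o4
    have e : (el Px) ^ 11 = (el Px ^ 3 * el Px ^ 3 * el Px ^ 3) * (el Px * el Px) := by group
    rw [e, hx3, e2, ← el_pcomp o4 o4, ← el_pcomp o5 o4, ← el_pcomp o6 o3,
      show pcomp (pcomp (pcomp (pcomp (pcomp Px Px) Px) (pcomp (pcomp Px Px) Px)) (pcomp (pcomp Px Px) Px))
        (pcomp Px Px) = idP by decide +kernel, el_idP]
  have h3 : el Pyy * el Px = (el Px) ^ 3 * el Pyy := by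
    rw [hx3, ← el_pcomp o2 o1, ← el_pcomp o4 o2,
      show pcomp Pyy Px = pcomp (pcomp (pcomp Px Px) Px) Pyy by decide +kernel]
  have h4 : el Px ≠ 1 := by
    rw [← el_idP]
    exact el_ne o1 ok_idP (i := 1) (by norm_num) (by decide +kernel)
  have h1' : ((el Px : M24) : Equiv.Perm GolayPt) ^ 11 = 1 := by rw [← Subgroup.coe_pow, h1]; rfl
  have h3' : ((el Pyy : M24) : Equiv.Perm GolayPt) * (el Px : M24) =
      ((el Px : M24) : Equiv.Perm GolayPt) ^ 3 * (el Pyy : M24) := by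
    rw [← Subgroup.coe_pow, ← Subgroup.coe_mul, ← Subgroup.coe_mul, h3]
  refine ⟨⟨el Px, mem_M22 fPx⟩, ⟨el Pyy, mem_M22 fPyy⟩, ?_, ?_, ?_⟩
  · apply Subtype.ext
    rw [Subgroup.coe_pow]
    exact h1'
  · intro h
    apply h4
    apply Subtype.ext
    exact congrArg (Subtype.val (p := fun x => x ∈ Spor.M22)) h
  · rw [mul_inv_eq_iff_eq_mul]
    apply Subtype.ext
    rw [Subgroup.coe_mul, Subgroup.coe_mul, Subgroup.coe_pow]
    exact h3'

/-- **The type for `M₂₂` over `F₇`.** -/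
theorem m22_minus {F : Type*} [Field F] [Fintype F] {Q : (Fin 10 → F) → F} {H P : Subgroup (Matrix.GeneralLinearGroup (Fin 10) F)}
    (h : Cx 7 Q H P) (hF : Fintype.card F = 7) (e : Spor.IsoM22 (H915.LD.Soc P)) : ¬ Geo.IsPlusTypeOn Q ⊤ := by
  have := h.char
  obtain ⟨e⟩ := e
  obtain ⟨X, Y, h1, h2, h3⟩ := m22_eleven
  have h11 : (11 : F) ≠ 0 := by
    intro h0
    have h4 : ((11 : ℕ) : F) = 0 := by exact_mod_cast h0
    rw [CharP.cast_eq_zero_iff F 7] at h4
    omega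
  intro hP
  have h5 := (h.type h11 e h1 h2 h3).1 hP
  rw [hF] at h5
  revert h5
  unfold Sq11
  decide

end Cfsg.Agent.H933.O10
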