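import Cfsg.Agent.H933.O10.L2
import Cfsg.Agent.H933.O10.M22
import Cfsg.Agent.H936.List12
import Cfsg.Agent.H905.MdN
import Cfsg.Agent.H875.PslRows

/-!
# S5848 and S5851: the assembly (helper933)

`H` maximal in `omegaGL Q`, `dim = 10`, with core `P`; `T = Soc P` known simple. The rows not yet landed are hypotheses.
-/

set_option autoImplicit false
set_option linter.unusedSectionVars false

namespace Cfsg.Agent.H933.O10

open Cfsg Cfsg.Geo Matrix Cfsg.Agent.H915.LD Cfsg.Agent.H912.Bd Cfsg.Agent.H912.Five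
open Cfsg.Agent.H936.List12 (AltC LieC MultC ExcC Cand)

universe u v

variable {F : Type u} [Field F] [Fintype F]

/-- the conclusion of S5848 -/
def PlusC (P : Subgroup (GL (Fin 10) F)) : Prop :=
  (Nonempty (Soc P ≃* ProjectiveSpecialLinearGroup (Fin 2) (ZMod 11)) ∧ (Fintype.card F).Prime ∧ Fintype.card F ≠ 3 ∧
    Sq11 (Fintype.card F)) ∨
  (Nonempty (Soc P ≃* alternatingGroup (Fin 11)) ∧ (Fintype.card F).Prime ∧ Fintype.card F ≠ 3 ∧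
    Sq11 (Fintype.card F)) ∨
  (Nonempty (Soc P ≃* alternatingGroup (Fin 12)) ∧ Fintype.card F = 3) ∨
  (Nonempty (Soc P ≃* Cfsg.PSp 2 F) ∧ Fintype.card F % 4 = 1)

/-- the conclusion of S5851 -/
def MinusC (P : Subgroup (GL (Fin 10) F)) : Prop :=
  (Nonempty (Soc P ≃* ProjectiveSpecialLinearGroup (Fin 2) (ZMod 11)) ∧ (Fintype.card F).Prime ∧ Fintype.card F ≠ 2 ∧
    Fintype.card F ≠ 7 ∧ Nsq11 (Fintype.card F)) ∨
  (Cfsg.Spor.IsoM22 (Soc P) ∧ Fintype.card F = 7) ∨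
  (Nonempty (Soc P ≃* alternatingGroup (Fin 11)) ∧ (Fintype.card F).Prime ∧ Fintype.card F ≠ 2 ∧
    Nsq11 (Fintype.card F)) ∨
  (Nonempty (Soc P ≃* alternatingGroup (Fin 12)) ∧ Fintype.card F = 2) ∨
  (Nonempty (Soc P ≃* Cfsg.PSp 2 F) ∧ Fintype.card F % 4 = 3)

/-- the conclusion of both -/
def Concl (Q : (Fin 10 → F) → F) (P : Subgroup (GL (Fin 10) F)) : Prop :=
  (IsPlusTypeOn Q ⊤ → PlusC P) ∧ (¬ IsPlusTypeOn Q ⊤ → MinusC P)

variable {p : ℕ} {Q : (Fin 10 → F) → F} {H P : Subgroup (GL (Fin 10) F)}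

theorem Cx.ne_zero (h : Cx p Q H P) {r : ℕ} (hr : r.Prime) (hrp : p ≠ r) : (r : F) ≠ 0 := by
  have := h.char
  intro h0
  exact hrp ((Nat.prime_dvd_prime_iff_eq h.prime hr).1 ((CharP.cast_eq_zero_iff F p r).1 h0))

theorem Cx.eleven_ne (h : Cx p Q H P) (hp : p ≠ 11) : (11 : F) ≠ 0 := by
  have := h.ne_zero (r := 11) (by norm_num) hp
  exact_mod_cast this

/-- `L₂(11)` -/
theorem concl_l2 (h : Cx p Q H P) (hpF : Fintype.card F = p) (hp11 : p ≠ 11)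
    (e : Soc P ≃* ProjectiveSpecialLinearGroup (Fin 2) (ZMod 11))
    (hkill : Fintype.card F ≠ 2 ∧ Fintype.card F ≠ 3 ∧ Fintype.card F ≠ 7) : Concl Q P := by
  obtain ⟨X, Y, h1, h2, h3⟩ := psl_eleven
  obtain ⟨t1, t2⟩ := h.type (h.eleven_ne hp11) e h1 h2 h3
  have hpr : (Fintype.card F).Prime := by rw [hpF]; exact h.prime
  exact ⟨fun hP => Or.inl ⟨⟨e⟩, hpr, hkill.2.1, t1 hP⟩, fun hP => Or.inl ⟨⟨e⟩, hpr, hkill.1, hkill.2.2, t2 hP⟩⟩

/-- `A₁₁` -/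
theorem concl_a11 (h : Cx p Q H P) (hpF : Fintype.card F = p) (hp11 : p ≠ 11) (hp2 : p ≠ 2) (hp3 : p ≠ 3)
    (e : Soc P ≃* alternatingGroup (Fin 11)) : Concl Q P := by
  obtain ⟨X, Y, h1, h2, h3⟩ := alt_eleven (Function.Embedding.refl (Fin 11))
  obtain ⟨t1, t2⟩ := h.type (h.eleven_ne hp11) e h1 h2 h3
  have hpr : (Fintype.card F).Prime := by rw [hpF]; exact h.prime
  exact ⟨fun hP => Or.inr (Or.inl ⟨⟨e⟩, hpr, by rwa [hpF], t1 hP⟩),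
    fun hP => Or.inr (Or.inr (Or.inl ⟨⟨e⟩, hpr, by rwa [hpF], t2 hP⟩))⟩

/-- `A₁₂` -/
theorem concl_a12 (h : Cx p Q H P) (hpF : Fintype.card F = p) (hp : p = 2 ∨ p = 3)
    (e : Soc P ≃* alternatingGroup (Fin 12)) : Concl Q P := by
  obtain ⟨X, Y, h1, h2, h3⟩ := alt_eleven (Fin.castSuccEmb (n := 11))
  obtain ⟨t1, t2⟩ := h.type (h.eleven_ne (by omega)) e h1 h2 h3
  rw [hpF] at t1 t2
  rcases hp with rfl | rfl
  · refine ⟨fun hP => absurd (t1 hP) ?_, fun _ => Or.inr (Or.inr (Or.inr (Or.inl ⟨⟨e⟩, hpF⟩)))⟩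
    unfold Sq11; decide
  · refine ⟨fun _ => Or.inr (Or.inr (Or.inl ⟨⟨e⟩, hpF⟩)), fun hP => absurd (t2 hP) ?_⟩
    unfold Nsq11; decide

/-- `M₂₂` -/
theorem concl_m22 (h : Cx 7 Q H P) (hpF : Fintype.card F = 7) (e : Cfsg.Spor.IsoM22 (Soc P)) : Concl Q P :=
  ⟨fun hP => absurd hP (m22_minus h hpF e), fun _ => Or.inr (Or.inl ⟨e, hpF⟩)⟩

/-- `PSp₄(q)` -/
theorem concl_psp (e : Soc P ≃* Cfsg.PSp 2 F) (h1 : IsPlusTypeOn Q ⊤ → Fintype.card F % 4 = 1)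
    (h3 : ¬ IsPlusTypeOn Q ⊤ → Fintype.card F % 4 = 3) : Concl Q P :=
  ⟨fun hP => Or.inr (Or.inr (Or.inr ⟨⟨e⟩, h1 hP⟩)), fun hP => Or.inr (Or.inr (Or.inr (Or.inr ⟨⟨e⟩, h3 hP⟩)))⟩

/-! ### Cross characteristic -/

/-- `alternating groups` -/
theorem cross_alt (h : Cx p Q H P) (hc : AltC p 10 (Soc P)) (hL : ¬ IsLieTypeChar p (Soc P))
    (r5 : p ≠ 5 → Nonempty (Soc P ≃* alternatingGroup (Fin 5)) → False)
    (r6 : Nonempty (Soc P ≃* alternatingGroup (Fin 6)) → False)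
    (r7 : Nonempty (Soc P ≃* alternatingGroup (Fin 7)) → False)
    (rm : ∀ m, 8 ≤ m → m ≤ 13 → ¬ (m = 8 ∧ p = 2) → Nonempty (Soc P ≃* alternatingGroup (Fin m)) →
      (m = 11 ∧ p ≠ 2 ∧ p ≠ 3 ∧ p ≠ 11 ∧ Fintype.card F = p) ∨ (m = 12 ∧ (p = 2 ∨ p = 3) ∧ Fintype.card F = p)) :
    Concl Q P := by
  obtain ⟨m, h5, h14, -, -, h14', he⟩ := hc
  have h13 : m ≤ 13 := by
    by_contra hcon
    have := h14' (by omega)
    omega
  rcases (show m = 5 ∨ m = 6 ∨ m = 7 ∨ 8 ≤ m by omega) with rfl | rfl | rfl | h8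
  · by_cases hp5 : p = 5
    · exfalso
      apply hL
      subst hp5
      obtain ⟨e⟩ := he
      have : Fact (Nat.Prime 5) := ⟨by norm_num⟩
      obtain ⟨e'⟩ := S0253.result (F := ZMod 5) (by simp)
      exact H936.List12.lie_of_isL (m := 2) (q := 5) (by norm_num) dvd_rfl le_rfl (fun _ => by norm_num)
        ⟨ZMod 5, inferInstance, inferInstance, by simp, ⟨e.trans e'.symm⟩⟩
    · exact (r5 hp5 he).elim
  · exact (r6 he).elim
  · exact (r7 he).elim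
  · obtain ⟨e⟩ := he
    have h82 : ¬ (m = 8 ∧ p = 2) := by
      rintro ⟨rfl, rfl⟩
      apply hL
      obtain ⟨e'⟩ := S0256.result (F := ZMod 2) (by simp)
      exact H936.List12.lie_of_isL (m := 4) (q := 2) (by norm_num) dvd_rfl (by norm_num) (by norm_num)
        ⟨ZMod 2, inferInstance, inferInstance, by simp, ⟨e.trans e'.symm⟩⟩
    rcases rm m h8 h13 h82 ⟨e⟩ with ⟨rfl, h2, h3, h11, hF⟩ | ⟨rfl, hp, hF⟩
    · exact concl_a11 h hF h11 h2 h3 e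
    · exact concl_a12 h hF hp e

/-- `L₂(q)` -/
theorem cross_l2 (h : Cx p Q H P) {q : ℕ} (hq : q ∈ ({7, 8, 11, 13, 17, 19, 23, 25} : Finset ℕ)) (hpq : ¬ p ∣ q)
    (hT : IsL 2 q (Soc P))
    (rl : Nonempty (Soc P ≃* ProjectiveSpecialLinearGroup (Fin 2) (ZMod 11)) →
      Fintype.card F ≠ 2 ∧ Fintype.card F ≠ 3 ∧ Fintype.card F ≠ 7) : Concl Q P := by
  obtain ⟨K, iF, iT, hK, ⟨e⟩⟩ := hT
  have hq5 : 5 ≤ q ∧ q ≠ 9 := by
    simp only [Finset.mem_insert, Finset.mem_singleton] at hq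
    omega
  obtain ⟨h11, hF, -⟩ := l2_row h (by omega) (by omega) (by rwa [hK]) e
  have : Fact (Nat.Prime 11) := ⟨by norm_num⟩
  obtain ⟨e'⟩ := H363.PslCard.psl_of_card (n := Fin 2) (F := K) (F' := ZMod 11) (by rw [h11, ZMod.card])
  refine concl_l2 h hF ?_ (e.trans e') (rl ⟨e.trans e'⟩)
  rintro rfl
  exact hpq (by rw [← hK, h11])

/-- **Cross characteristic, sporadic groups excepted.** -/
theorem cross (h : Cx p Q H P) (hc : Cand p 10 (Soc P)) (hL : ¬ IsLieTypeChar p (Soc P))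
    (r5 : p ≠ 5 → Nonempty (Soc P ≃* alternatingGroup (Fin 5)) → False)
    (r6 : Nonempty (Soc P ≃* alternatingGroup (Fin 6)) → False)
    (r7 : Nonempty (Soc P ≃* alternatingGroup (Fin 7)) → False)
    (rm : ∀ m, 8 ≤ m → m ≤ 13 → ¬ (m = 8 ∧ p = 2) → Nonempty (Soc P ≃* alternatingGroup (Fin m)) →
      (m = 11 ∧ p ≠ 2 ∧ p ≠ 3 ∧ p ≠ 11 ∧ Fintype.card F = p) ∨ (m = 12 ∧ (p = 2 ∨ p = 3) ∧ Fintype.card F = p))
    (rl : Nonempty (Soc P ≃* ProjectiveSpecialLinearGroup (Fin 2) (ZMod 11)) →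
      Fintype.card F ≠ 2 ∧ Fintype.card F ≠ 3 ∧ Fintype.card F ≠ 7)
    (rl33 : p ≠ 3 → IsL 3 3 (Soc P) → False) (ru33 : p ≠ 3 → IsU 3 3 (Soc P) → False)
    (ru42 : p ≠ 2 → p ≠ 3 → IsU 4 2 (Soc P) → False) (ru52 : p ≠ 2 → IsU 5 2 (Soc P) → False)
    (rs62 : p ≠ 2 → IsS 3 2 (Soc P) → False) (ro82 : p ≠ 2 → IsOP 4 2 (Soc P) → False)
    (rl34 : p ≠ 2 → IsL 3 4 (Soc P) → False) (ru62 : p ≠ 2 → IsU 6 2 (Soc P) → False)
    (rg24 : p ≠ 2 → H912.Bd.IsG2 4 (Soc P) → False) (rg23 : p ≠ 3 → H912.Bd.IsG2 3 (Soc P) → False)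
    (rsz : p ≠ 2 → IsSz8 (Soc P) → False) : Concl Q P := by
  rcases hc with hc | hc | hc | hc
  · exact cross_alt h hc hL r5 r6 r7 rm
  · rcases hc with ⟨q, hq, hpq, -, hT⟩ | ⟨hp, -, hT⟩ | ⟨hp, -, hT⟩ | ⟨-, h12, -⟩ | ⟨hp2, hp3, -, hT⟩ | ⟨hp, -, hT⟩ |
      ⟨-, h12, -⟩ | ⟨hp, -, hT⟩ | ⟨hp, -, hT⟩
    · exact cross_l2 h hq hpq hT rl
    · exact (rl33 hp hT).elim
    · exact (ru33 hp hT).elim
    · omega
    · exact (ru42 hp2 hp3 hT).elim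
    · exact (ru52 hp hT).elim
    · omega
    · exact (rs62 hp hT).elim
    · exact (ro82 hp hT).elim
  · rcases hc with ⟨hp, -, hT | hT | ⟨hp3, hT⟩ | hT | hT | hT | hT⟩ | ⟨-, h3, -⟩
    · refine cross_l2 h (q := 7) (by decide) ?_ hT rl
      intro h7
      exact hL (H936.List12.lie_of_isL (m := 2) (q := 7) h.prime h7 le_rfl (fun _ => by norm_num) hT)
    · exact (rl34 hp hT).elim
    · exact (ru42 hp hp3 hT).elim
    · exact (ru62 hp hT).elim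
    · exact (rs62 hp hT).elim
    · exact (ro82 hp hT).elim
    · exact (rg24 hp hT).elim
    · omega
  · rcases hc with ⟨hp, -, hT⟩ | ⟨hp, -, hT⟩
    · exact (rg23 hp hT).elim
    · exact (rsz hp hT).elim

/-! ### Own characteristic -/

/-- **Own characteristic.** -/
theorem own (h : Cx p Q H P) (hL : IsLieTypeChar p (Soc P))
    (rpsl : ∀ (K : Type) [Field K] [Fintype K] [CharP K p] (m : ℕ), 3 ≤ m →
      Nonempty (Soc P ≃* ProjectiveSpecialLinearGroup (Fin m) K) → False)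
    (rpsp4 : ∀ (K : Type) [Field K] [Fintype K] [CharP K p], 3 ≤ Fintype.card K → Nonempty (Soc P ≃* PSp 2 K) →
      Nonempty (Soc P ≃* PSp 2 F) ∧ (IsPlusTypeOn Q ⊤ → Fintype.card F % 4 = 1) ∧
        (¬ IsPlusTypeOn Q ⊤ → Fintype.card F % 4 = 3))
    (rpsp : ∀ (K : Type) [Field K] [Fintype K] [CharP K p] (m : ℕ), 3 ≤ m → m ≤ 5 → Nonempty (Soc P ≃* PSp m K) → False)
    (rpsu : ∀ (K : Type) [Field K] [Fintype K] [CharP K p] (N q : ℕ), Fintype.card K = q ^ 2 → 3 ≤ N →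
      ¬ (N = 3 ∧ q = 2) → Nonempty (Soc P ≃* PSU N K q) → False)
    (rsz : p = 2 → Lie.IsoSuzuki (Soc P) → False) (rree : p = 3 → Lie.IsoRee (Soc P) → False)
    (roo : ∀ (K : Type) [Field K] [Fintype K] [CharP K p] (m : ℕ), 3 ≤ m → m ≤ 5 → Odd (Fintype.card K) →
      Nonempty (Soc P ≃* POmega K (quadFormOdd m K)) → False)
    (rop : ∀ (K : Type) [Field K] [Fintype K] [CharP K p] (m : ℕ), 4 ≤ m → m ≤ 5 →
      Nonempty (Soc P ≃* POmega K (quadFormPlus m K)) → False)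
    (rom : ∀ (K : Type) [Field K] [Fintype K] [CharP K p] (m : ℕ) (a b : K), 3 ≤ m → m ≤ 5 →
      (∀ z₁ z₂ : K, z₁ ^ 2 + a * z₁ * z₂ + b * z₂ ^ 2 = 0 → z₁ = 0 ∧ z₂ = 0) →
      Nonempty (Soc P ≃* POmega K (quadFormMinus m K a b)) → False)
    (rg2 : ∀ (K : Type) [Field K] [Fintype K] [CharP K p], 3 ≤ Fintype.card K →
      Nonempty (Soc P ≃* Lie.chevG2.group K) → False)
    (rd4 : ∀ (K : Type) [Field K] [Fintype K] [CharP K p] (q : ℕ), IsPrimePow q → Fintype.card K = q ^ 3 →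
      Nonempty (Soc P ≃* Lie.twistedD4 K q) → False)
    (rf4 : p = 2 → Lie.Iso2F4 (Soc P) → False) : Concl Q P := by
  have hpf := Fact.mk h.prime
  have hch := h.char
  have hs := h.hc.simple
  have hlist := H905.Md.small_dc (p := p) h.hc.absIrred.1 h.hc.perfect hL (by rw [Fintype.card_fin]; norm_num)
  rw [Fintype.card_fin] at hlist
  rcases hlist with ⟨K, i1, i2, i3, l, hl, h4, he⟩ | ⟨K, i1, i2, i3, m, hm, hm', h3, he⟩ |
    ⟨K, i1, i2, i3, N, q, hF, hN, -, hNq, he⟩ | ⟨h2, he⟩ | ⟨h3, he⟩ | ⟨K, i1, i2, i3, m, hm, hm', hodd, he⟩ |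
    ⟨K, i1, i2, i3, m, hm, hm', he⟩ | ⟨K, i1, i2, i3, m, a, b, hm, hm', hab, he⟩ | ⟨-, K, i1, i2, i3, h3, he⟩ |
    ⟨-, K, i1, i2, i3, q, hq, hK, he⟩ | ⟨-, h2, he⟩
  · rcases (show l = 1 ∨ 3 ≤ l + 1 by omega) with rfl | h3
    · obtain ⟨e⟩ := he
      exact (H875.PslRows.omega_row p h.hQ (Or.inl (by rw [Fintype.card_fin])) h.hH h.hc e).elim
    · exact (rpsl K (l + 1) h3 he).elim
  · rcases (show m = 2 ∨ 3 ≤ m by omega) with rfl | h3'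
    · obtain ⟨⟨e⟩, h1, h2⟩ := rpsp4 K (h3 rfl) he
      exact concl_psp e h1 h2
    · exact (rpsp K m h3' (by omega) he).elim
  · exact (rpsu K N q hF hN hNq he).elim
  · exact (rsz h2 he).elim
  · exact (rree h3 he).elim
  · exact (roo K m hm (by omega) hodd he).elim
  · exact (rop K m hm (by omega) he).elim
  · obtain ⟨m, rfl⟩ : ∃ k, m = k + 1 := ⟨m - 1, by omega⟩
    exact (rom K m a b (by omega) (by omega) hab he).elim
  · exact (rg2 K h3 he).elim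
  · exact (rd4 K q hq hK he).elim
  · exact (rf4 h2 he).elim

end Cfsg.Agent.H933.O10
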