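import Cfsg.Agent.H933.O10.Rows
import Cfsg.Agent.H933.JOneTen
import Cfsg.Agent.H936.List12b
import Cfsg.Agent.H937.O10A6
import Cfsg.Agent.H908.TenA7
import Cfsg.Agent.H869.L34.Kill7
import Cfsg.Agent.H964.AltMod.TenRow
import Cfsg.Agent.H870.MEleven.Omega
import Cfsg.Agent.H925.U52Form
import Cfsg.Agent.H659.Sp4NotSD
import Cfsg.Agent.H659.U3Stage
import Cfsg.Agent.H175.LD.Core33
import Cfsg.Agent.H95.JT.Core
import Cfsg.Agent.H814.SzEightCore
import Cfsg.Agent.H4.LDM.Stage24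

/-!
# S5848 and S5851: cross characteristic (helper933)
-/

set_option autoImplicit false
set_option linter.unusedSectionVars false

namespace Cfsg.Agent.H933.O10

open Cfsg Cfsg.Geo Matrix Cfsg.Agent.H915.LD Cfsg.Agent.H912.Bd Cfsg.Agent.H912.Five
open Cfsg.Agent.H936.List12 (AltC LieC MultC ExcC Cand MultD SporC SporP CandD)

universe u v

variable {F : Type u} [Field F] [Fintype F] {p : ℕ} {Q : (Fin 10 → F) → F} {H P : Subgroup (GL (Fin 10) F)}

theorem row_u33' (h : Cx p Q H P) (hp3 : p ≠ 3) (hT : IsU 3 3 (Soc P)) : False := by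
  refine row_u33 h hT fun hp2 => ?_
  obtain ⟨K, i1, i2, hK, ⟨e⟩⟩ := hT
  have := Fact.mk h.prime
  have := h.char
  have h1 := (H659.U3.u33_stage h.core p hp2 hp3 (by rw [Fintype.card_fin]; norm_num) (k := K) (by rw [hK]; norm_num) e).2
  rw [Fintype.card_fin] at h1
  omega

theorem row_u42 (h : Cx p Q H P) (hp2 : p ≠ 2) (hp3 : p ≠ 3) (hT : IsU 4 2 (Soc P)) : False := by
  obtain ⟨K, i1, i2, hK, ⟨e⟩⟩ := hT
  have := Fact.mk h.prime
  have := h.char
  have h1 := H659.Sp4.sd_six' h.core p hp2 hp3 (by rw [Fintype.card_fin]; norm_num) (k := K) (by rw [hK]; norm_num) e h.sd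
  rw [Fintype.card_fin] at h1
  omega

theorem row_u52 (h : Cx p Q H P) (hp2 : p ≠ 2) (hT : IsU 5 2 (Soc P)) : False := by
  obtain ⟨K, i1, i2, hK, ⟨e⟩⟩ := hT
  have := Fact.mk h.prime
  have := h.char
  exact H925.U52.not_fixQ h.core p hp2 (by norm_num) (F₄ := K) (by rw [hK]; norm_num) e h.fixQ

theorem row_l33 (h : Cx p Q H P) (hp3 : p ≠ 3) (hT : IsL 3 3 (Soc P)) : False := by
  obtain ⟨K, i1, i2, hK, ⟨e⟩⟩ := hT
  have := Fact.mk h.prime
  have := h.char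
  have h1 := (H175.L33.l33 h.core p hp3 hK e (by rw [Fintype.card_fin]; norm_num)).2.2.2
  rw [Fintype.card_fin] at h1
  omega

theorem row_l34 (h : Cx p Q H P) (hp2 : p ≠ 2) (hT : IsL 3 4 (Soc P)) : False := by
  obtain ⟨K, i1, i2, hK, ⟨e⟩⟩ := hT
  exact H869.L34.o10_l34 h (h.two_ne hp2) hK e

theorem row_sz (h : Cx p Q H P) (hp2 : p ≠ 2) (hT : IsSz8 (Soc P)) : False := by
  have h1 := (H814.Sz8.core_sz8 h.core (h.two_ne hp2) (by rw [Fintype.card_fin]; norm_num) hT).1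
  rw [Fintype.card_fin] at h1
  omega

theorem row_alt (h : Cx p Q H P) (m : ℕ) (h8 : 8 ≤ m) (h82 : ¬ (m = 8 ∧ p = 2))
    (e : Nonempty (Soc P ≃* alternatingGroup (Fin m))) :
    (m = 11 ∧ p ≠ 2 ∧ p ≠ 3 ∧ p ≠ 11 ∧ Fintype.card F = p) ∨ (m = 12 ∧ (p = 2 ∨ p = 3) ∧ Fintype.card F = p) := by
  obtain ⟨e⟩ := e
  exact H964.AltMod.o10_alt h h8 (fun h => h82 ⟨h.2, h.1⟩) e

/-- **Cross characteristic.** -/
theorem cross1 (h : Cx p Q H P) (hc : CandD p 10 (Soc P)) (hL : ¬ IsLieTypeChar p (Soc P))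
    (rm11 : p ≠ 2 → Spor.IsoM11 (Soc P) → False) (rm12 : Spor.IsoM12 (Soc P) → False)
    (rm22 : Spor.IsoM22 (Soc P) → p = 7 ∧ Fintype.card F = 7)
    (rj2 : Spor.IsoJ2 (Soc P) → False) (rsuz : Spor.IsoSuz (Soc P) → False)
    (rg24 : p ≠ 2 → H912.Bd.IsG2 4 (Soc P) → False)
    (rl : Nonempty (Soc P ≃* ProjectiveSpecialLinearGroup (Fin 2) (ZMod 11)) →
      Fintype.card F ≠ 2 ∧ Fintype.card F ≠ 3 ∧ Fintype.card F ≠ 7) : Concl Q P := by
  have hpf := Fact.mk h.prime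
  have hch := h.char
  have h12 : Fintype.card (Fin 10) ≤ 12 := by rw [Fintype.card_fin]; norm_num
  have key : Cand p 10 (Soc P) → Concl Q P := fun hc' =>
    cross h hc' hL (row_a5 h) (fun he => he.elim fun e => H937.T2.o10_a6 h e)
      (fun he => he.elim fun e => H908.Ten.o10_a7 h e) (fun m h8 _ h82 e => row_alt h m h8 h82 e) rl
      (row_l33 h) (row_u33' h) (row_u42 h) (row_u52 h) (row_s62 h) (row_o82 h) (row_l34 h) (row_u62 h) rg24 (row_g23 h)
      (row_sz h)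
  rcases hc with hc | hc | hc | ⟨hp2, -, hT⟩ | hc
  · exact key (Or.inl hc)
  · exact key (Or.inr (Or.inl hc))
  · refine key (Or.inr (Or.inr (Or.inl ?_)))
    rcases hc with ⟨h1, h2, h3 | h3 | h3 | h3 | h3 | h3⟩ | ⟨-, h2, -⟩
    · exact Or.inl ⟨h1, h2, Or.inl h3⟩
    · exact Or.inl ⟨h1, h2, Or.inr (Or.inl h3)⟩
    · exact Or.inl ⟨h1, h2, Or.inr (Or.inr (Or.inl h3))⟩
    · exact Or.inl ⟨h1, h2, Or.inr (Or.inr (Or.inr (Or.inr (Or.inl h3))))⟩
    · exact Or.inl ⟨h1, h2, Or.inr (Or.inr (Or.inr (Or.inr (Or.inr (Or.inl h3)))))⟩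
    · exact Or.inl ⟨h1, h2, Or.inr (Or.inr (Or.inr (Or.inr (Or.inr (Or.inr h3)))))⟩
    · omega
  · exact (row_sz h hp2 hT).elim
  · rcases hc with hT | hT | hT | hT | hT | hT | hT | hT | hT
    · by_cases hp2 : p = 2
      · subst hp2
        exact (H870.MEleven.o10_m11_two h hT).elim
      · exact (rm11 hp2 hT).elim
    · exact (rm12 hT).elim
    · obtain ⟨rfl, hF⟩ := rm22 hT
      exact concl_m22 h hF hT
    · obtain ⟨e⟩ := hT
      have h1 := (H4.LDM.Stage.m23_low h.core e p h12).2.1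
      rw [Fintype.card_fin] at h1
      omega
    · obtain ⟨e⟩ := hT
      have h1 := (H4.LDM.Stage.m24_low h.core e p h12).2.1
      rw [Fintype.card_fin] at h1
      omega
    · exact (JOneTen.j1_false' h.core hT (by rw [Fintype.card_fin]; norm_num) (by rw [Fintype.card_fin]; norm_num)).elim
    · exact (rj2 hT).elim
    · have h1 := (H95.JT.j3 p h.core hT h12).2.1
      rw [Fintype.card_fin] at h1
      omega
    · exact (rsuz hT).elim

end Cfsg.Agent.H933.O10
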