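import Cfsg.Agent.H933.O10.Cross
import Cfsg.Agent.H933.JTwoTen
import Cfsg.Agent.H926.MThKill
import Cfsg.Agent.H36.M12.KillTwo
import Cfsg.Agent.H921.M22.Two
import Cfsg.Agent.H878.Sz.MainThree
import Cfsg.Agent.H878.Sz.MainP3
import Cfsg.Agent.H936.List12c
import Cfsg.Agent.H937.G24.Row
import Cfsg.Agent.H932.O10Own
import Cfsg.Agent.H830.O10.Main

/-!
# S5848 and S5851: the final assembly (helper933)

`final` : the two statements from the inputs of `Inputs` (rows not yet landed) and the classification.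
-/

set_option autoImplicit false
set_option linter.unusedSectionVars false

namespace Cfsg.Agent.H933.O10

open Cfsg Cfsg.Geo Matrix Cfsg.Agent.H915.LD Cfsg.Agent.H912.Bd Cfsg.Agent.H912.Five
open Cfsg.Agent.H936.List12 (AltC LieC MultC ExcC Cand MultD SporC SporP CandD)

universe u v

/-- the inputs -/
structure Inputs (F : Type u) [Field F] [Fintype F] : Prop where
  m22 : ∀ {p : ℕ} {Q : (Fin 10 → F) → F} {H P : Subgroup (GL (Fin 10) F)}, Cx p Q H P → p ≠ 2 →
    Spor.IsoM22 (Soc P) → p = 7 ∧ Fintype.card F = 7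

variable {F : Type u} [Field F] [Fintype F]

theorem row_m22 (I : Inputs F) {p : ℕ} {Q : (Fin 10 → F) → F} {H P : Subgroup (GL (Fin 10) F)} (h : Cx p Q H P)
    (hT : Spor.IsoM22 (Soc P)) : p = 7 ∧ Fintype.card F = 7 := by
  by_cases hp : p = 2
  · exfalso
    subst hp
    have := h.char
    obtain ⟨e⟩ := hT
    have h1 := H921.M22.two e h.core (by rw [Fintype.card_fin]; norm_num)
    rw [Fintype.card_fin] at h1
    rcases h1 with h1 | h1 | h1
    · exact absurd h1.1 (by norm_num)
    · exact h1.2.2 h.sd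
    · exact absurd h1.1 (by norm_num)
  · exact I.m22 h hp hT

theorem row_suz {p : ℕ} {Q : (Fin 10 → F) → F} {H P : Subgroup (GL (Fin 10) F)} (h : Cx p Q H P)
    (hT : Spor.IsoSuz (Soc P)) : False := by
  by_cases hp : p = 3
  · subst hp
    have := h.char
    obtain ⟨e⟩ := hT
    have h1 := (H878.Sz.core_Suz_three h.core e (by rw [Fintype.card_fin]; norm_num)).1
    rw [Fintype.card_fin] at h1
    omega
  · have := Fact.mk h.prime
    have := h.char
    obtain ⟨e⟩ := hT
    have h1 := (H878.Sz.core_Suz h.core e (by rw [Fintype.card_fin]; norm_num) p hp).1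
    rw [Fintype.card_fin] at h1
    omega

theorem row_g24 {p : ℕ} {Q : (Fin 10 → F) → F} {H P : Subgroup (GL (Fin 10) F)} (h : Cx p Q H P) (hp : p ≠ 2)
    (hT : H912.Bd.IsG2 4 (Soc P)) : False := by
  obtain ⟨K, i1, i2, hK, ⟨e⟩⟩ := hT
  have h1 := H937.G24.core_ge hK (h.two_ne hp) e
  rw [Fintype.card_fin] at h1
  omega

theorem final (I : Inputs F) (hk : ∀ (T : Type u) [Group T] [Finite T] [IsSimpleGroup T], IsKnownSimple' T)
    {Q : (Fin 10 → F) → F} (hQ : IsNondegenerateQuadraticForm Q) {H : Subgroup (GL (Fin 10) F)}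
    (hH : IsMaximalIn (omegaGL Q) H) (hS : InOrthogonalResidualClass H) :
    ∃ P : Subgroup (GL (Fin 10) F), IsResidualCore H P ∧ Concl Q P := by
  obtain ⟨P, hP, -⟩ := hS
  obtain ⟨p, hch⟩ := CharP.exists F
  have hp : p.Prime := CharP.char_is_prime F p
  have hpf := Fact.mk hp
  have h : Cx p Q H P := ⟨hp, hch, hQ, hH, hP⟩
  refine ⟨P, hP, ?_⟩
  by_cases hL : IsLieTypeChar p (Soc P)
  · exact H932.O10.own_ten h hL
  · have := hP.simple
    exact cross1 h (H936.List12.list₂ (p := p) (by norm_num) h.core (hk (Soc P)) hL) hL (H926.MTh.m11_dead h)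
      (H36.M12.o10_m12 h) (row_m22 I h) (JTwoTen.o10_j2 h) (row_suz h) (row_g24 h) (H830.O10.l2_eleven h)

end Cfsg.Agent.H933.O10
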