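import Cfsg.Agent.H933.O10.L11Sys
import Cfsg.Agent.H36.M12.KillTwo

/-!
# `L₂(11)` in `Ω₁₀^±(2)` (helper933)

* `inner_or_outer` : the elements of `H` act on `P` as inner automorphisms or as conjugation by `diag(1, -1)` times an
  inner automorphism;
* `l2_two` : `L₂(11)` is no residual core in `Ω₁₀^±(2)`.
-/

set_option autoImplicit false
set_option linter.unusedSectionVars false

namespace Cfsg.Agent.H933.L11

open Matrix Module Cfsg Cfsg.Geo Cfsg.Agent.H464.Sl2 Cfsg.Agent.H915.LD Cfsg.Agent.H933.O10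
open Cfsg.Agent.ClassicalGeometry.AutPSL.Auto (cj coe_cj)
open Cfsg.Agent.ClassicalGeometry

universe u v

local notation "G11" => SpecialLinearGroup (Fin 2) (ZMod 11)

/-- `diag(1, -1)` -/
def D11 : GL (Fin 2) (ZMod 11) := ⟨!![1, 0; 0, -1], !![1, 0; 0, -1], by decide, by decide⟩

theorem sq_or : ∀ d : ZMod 11, d ≠ 0 → ∃ s : ZMod 11, s ≠ 0 ∧ (d = s * s ∨ d = -(s * s)) := by decide +kernel

theorem cj_smul {A B : GL (Fin 2) (ZMod 11)} {s : ZMod 11} (hs : s ≠ 0)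
    (hAB : (A : Matrix (Fin 2) (Fin 2) (ZMod 11)) = s • (B : Matrix (Fin 2) (Fin 2) (ZMod 11))) (g : G11) :
    cj A g = cj B g := by
  have h1 : ((A⁻¹ : GL (Fin 2) (ZMod 11)) : Matrix (Fin 2) (Fin 2) (ZMod 11)) =
      s⁻¹ • ((B⁻¹ : GL (Fin 2) (ZMod 11)) : Matrix (Fin 2) (Fin 2) (ZMod 11)) := by
    have h2 : (A : Matrix (Fin 2) (Fin 2) (ZMod 11)) *
        (s⁻¹ • ((B⁻¹ : GL (Fin 2) (ZMod 11)) : Matrix (Fin 2) (Fin 2) (ZMod 11))) = 1 := by
      rw [hAB, Matrix.smul_mul, Matrix.mul_smul, smul_smul, mul_inv_cancel₀ hs, one_smul, ← Units.val_mul, mul_inv_cancel,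
        Units.val_one]
    calc ((A⁻¹ : GL (Fin 2) (ZMod 11)) : Matrix (Fin 2) (Fin 2) (ZMod 11)) =
        ((A⁻¹ : GL (Fin 2) (ZMod 11)) : Matrix (Fin 2) (Fin 2) (ZMod 11)) *
          ((A : Matrix (Fin 2) (Fin 2) (ZMod 11)) *
            (s⁻¹ • ((B⁻¹ : GL (Fin 2) (ZMod 11)) : Matrix (Fin 2) (Fin 2) (ZMod 11)))) := by rw [h2, Matrix.mul_one]
      _ = _ := by
        rw [← Matrix.mul_assoc, ← Units.val_mul, inv_mul_cancel, Units.val_one, Matrix.one_mul]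
  apply Subtype.ext
  rw [coe_cj, coe_cj, h1, hAB, Matrix.smul_mul, Matrix.mul_smul, Matrix.smul_mul, smul_smul, inv_mul_cancel₀ hs, one_smul]

/-- `GL₂(11)` is generated by scalars, `SL₂(11)` and `diag(1, -1)` -/
theorem gl_cases (A : GL (Fin 2) (ZMod 11)) :
    (∃ k : G11, ∀ g : G11, cj A g = k * g * k⁻¹) ∨ ∃ k : G11, ∀ g : G11, cj A g = k * cj D11 g * k⁻¹ := by
  have hd : (A : Matrix (Fin 2) (Fin 2) (ZMod 11)).det ≠ 0 := by
    have h1 := (Matrix.isUnit_iff_isUnit_det _).1 A.isUnit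
    exact h1.ne_zero
  obtain ⟨s, hs, h⟩ := sq_or _ hd
  rcases h with h | h
  · left
    have hdet : (s⁻¹ • (A : Matrix (Fin 2) (Fin 2) (ZMod 11))).det = 1 := by
      rw [Matrix.det_smul, h, Fintype.card_fin]
      field_simp
    let k : G11 := ⟨s⁻¹ • (A : Matrix (Fin 2) (Fin 2) (ZMod 11)), hdet⟩
    refine ⟨k, fun g => ?_⟩
    rw [cj_smul (B := Matrix.SpecialLinearGroup.toGL k) hs (by
      change _ = s • (s⁻¹ • (A : Matrix (Fin 2) (Fin 2) (ZMod 11)))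
      rw [smul_smul, mul_inv_cancel₀ hs, one_smul])]
    rfl
  · right
    have hD : ((D11 : Matrix (Fin 2) (Fin 2) (ZMod 11))).det = -1 := by decide
    have hdet : (s⁻¹ • ((A : Matrix (Fin 2) (Fin 2) (ZMod 11)) * (D11 : Matrix (Fin 2) (Fin 2) (ZMod 11)))).det = 1 := by
      rw [Matrix.det_smul, Matrix.det_mul, h, hD, Fintype.card_fin]
      field_simp
    let k : G11 := ⟨s⁻¹ • ((A : Matrix (Fin 2) (Fin 2) (ZMod 11)) * (D11 : Matrix (Fin 2) (Fin 2) (ZMod 11))), hdet⟩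
    refine ⟨k, fun g => ?_⟩
    rw [cj_smul (B := Matrix.SpecialLinearGroup.toGL k * D11) hs (by
      change _ = s • (s⁻¹ • ((A : Matrix (Fin 2) (Fin 2) (ZMod 11)) * (D11 : Matrix (Fin 2) (Fin 2) (ZMod 11))) *
        (D11 : Matrix (Fin 2) (Fin 2) (ZMod 11)))
      have hDD : (D11 : Matrix (Fin 2) (Fin 2) (ZMod 11)) * (D11 : Matrix (Fin 2) (Fin 2) (ZMod 11)) = 1 := by decide
      rw [Matrix.smul_mul, Matrix.mul_assoc, hDD, Matrix.mul_one, smul_smul, mul_inv_cancel₀ hs, one_smul]), map_mul]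
    rfl

theorem cj_D11_cj_D11 (g : G11) : cj D11 (cj D11 g) = g := by
  have hDD : D11 * D11 = 1 := by
    apply Units.ext
    change (D11 : Matrix (Fin 2) (Fin 2) (ZMod 11)) * (D11 : Matrix (Fin 2) (Fin 2) (ZMod 11)) = 1
    decide
  have h1 : cj (D11 * D11) g = g := by rw [hDD, map_one]; rfl
  rw [map_mul] at h1
  exact h1

theorem cj_D11_u : cj D11 (u (1 : ZMod 11)) = (u 1)⁻¹ := by decide +kernel

variable {F : Type u} [Field F] {p : ℕ} {Q : (Fin 10 → F) → F} {H P : Subgroup (GL (Fin 10) F)}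

/-- **Inner and outer elements of `H`.** -/
theorem Rp.inner_or_outer (h : Cx p Q H P) {ρ : G11 →* GL (Fin 10) F} (r : Rp P ρ)
    (hout : ∀ x ∈ H, (∀ g : G11, x * ρ g * x⁻¹ = ρ (cj D11 g)) → False) :
    ∀ x ∈ H, ∃ g : G11, ∀ y ∈ P, x * y * x⁻¹ = ρ g * y * (ρ g)⁻¹ := by
  intro x hx
  obtain ⟨A, hA⟩ := r.exists_cj h.hc.normal hx
  rcases gl_cases A with ⟨k, hk⟩ | ⟨k, hk⟩
  · refine ⟨k, fun y hy => ?_⟩
    obtain ⟨g, rfl⟩ := r.exists_eq hy
    rw [hA, hk, map_mul, map_mul, map_inv]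
  · exfalso
    refine hout ((ρ k)⁻¹ * x) (H.mul_mem (H.inv_mem (h.hc.le (r.mem k))) hx) fun g => ?_
    have h1 := hA g
    rw [hk, map_mul, map_mul, map_inv] at h1
    calc (ρ k)⁻¹ * x * ρ g * ((ρ k)⁻¹ * x)⁻¹ = (ρ k)⁻¹ * (x * ρ g * x⁻¹) * ρ k := by group
      _ = ρ (cj D11 g) := by rw [h1]; group

theorem u_pow (n : ℕ) : (u (1 : ZMod 11)) ^ n = u (n : ZMod 11) := by
  induction n with
  | zero => rw [pow_zero, Nat.cast_zero, u_zero]
  | succ n ih => rw [pow_succ, ih, ← u_add, Nat.cast_succ]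

theorem u_eleven : (u (1 : ZMod 11)) ^ 11 = 1 := by decide +kernel

theorem two_cc : (t (⟨5, 9, by decide, by decide⟩ : (ZMod 11)ˣ)) * u (1 : ZMod 11) *
    (t (⟨5, 9, by decide, by decide⟩ : (ZMod 11)ˣ))⁻¹ = (u 1) ^ 3 := by decide +kernel

/-- an element of order eleven of `P` has no fixed vector -/
theorem Rp.nofix (h : Cx p Q H P) (hp : p ≠ 11) {ρ : G11 →* GL (Fin 10) F} (r : Rp P ρ) (v : Fin 10 → F)
    (hv : (ρ (u 1) : Matrix (Fin 10) (Fin 10) F) *ᵥ v = v) : v = 0 := by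
  refine no_fixed_eleven (by rw [Fintype.card_fin]) ?_ h.hQ (h.le_omega (r.mem (u 1)))
    (by rw [← map_pow, u_eleven, map_one]) ?_
    (y := ρ (t (⟨5, 9, by decide, by decide⟩ : (ZMod 11)ˣ))) (by rw [← map_inv, ← map_mul, ← map_mul, two_cc, map_pow]) v hv
  · intro h0
    have := h.char
    have h1 : ((11 : ℕ) : F) = 0 := by exact_mod_cast h0
    rw [CharP.cast_eq_zero_iff F p] at h1
    exact hp ((Nat.prime_dvd_prime_iff_eq h.prime (by norm_num)).1 h1)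
  · rw [Ne, r.map_eq_one]
    decide

/-- **No outer elements in characteristic two.** -/
theorem Rp.no_outer_two [Finite F] (h : Cx p Q H P) (hp : p ≠ 11) (c2 : (2 : F) = 0) {ρ : G11 →* GL (Fin 10) F} (r : Rp P ρ)
    {x' : GL (Fin 10) F} (hx' : x' ∈ H) (hc : ∀ g : G11, x' * ρ g * x'⁻¹ = ρ (cj D11 g)) : False := by
  have hx2 : x' * x' = 1 := by
    obtain ⟨c, hc2, hc1⟩ := H36.M12.cent_H h (y := x' * x') (H.mul_mem hx' hx') (by
      intro g hg
      obtain ⟨g, rfl⟩ := r.exists_eq hg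
      have h2 := hc (cj D11 g)
      rw [cj_D11_cj_D11, ← hc] at h2
      refine Eq.trans ?_ h2
      group)
    have h3 : c = 1 := by
      have h4 : (c - 1) * (c - 1) = 0 := by linear_combination hc2 - (c - 1) * c2
      exact sub_eq_zero.1 (mul_self_eq_zero.1 h4)
    apply Units.ext
    rw [hc1, h3, one_smul]
    rfl
  set y : GL (Fin 10) F := ρ (u 1) with hy
  have t2 : x' * y = y⁻¹ * x' := by
    have h1 := hc (u 1)
    rw [cj_D11_u, map_inv] at h1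
    rw [hy, ← h1]
    group
  have y11 : y ^ 11 = 1 := by rw [hy, ← map_pow, u_eleven, map_one]
  -- the fixed space
  have mul : ∀ (a b : GL (Fin 10) F) (v : Fin 10 → F), ((a * b : GL (Fin 10) F) : Matrix (Fin 10) (Fin 10) F) *ᵥ v =
      (a : Matrix (Fin 10) (Fin 10) F) *ᵥ ((b : Matrix (Fin 10) (Fin 10) F) *ᵥ v) := fun a b v => by
    rw [Units.val_mul, Matrix.mulVec_mulVec]
  have one : ∀ v : Fin 10 → F, ((1 : GL (Fin 10) F) : Matrix (Fin 10) (Fin 10) F) *ᵥ v = v := fun v => by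
    rw [Units.val_one, Matrix.one_mulVec]
  have h5 := H36.M12.fix_five c2 H36.M12.finrank_ten (Matrix.mulVecLin (x' : Matrix (Fin 10) (Fin 10) F))
    (Matrix.mulVecLin (y : Matrix (Fin 10) (Fin 10) F)) (Matrix.mulVecLin ((y⁻¹ : GL (Fin 10) F) : Matrix (Fin 10) (Fin 10) F))
    (fun v => by rw [Matrix.mulVecLin_apply, Matrix.mulVecLin_apply, ← mul, hx2, one])
    (fun v => by rw [Matrix.mulVecLin_apply, Matrix.mulVecLin_apply, ← mul, inv_mul_cancel, one])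
    (fun v => by rw [Matrix.mulVecLin_apply, Matrix.mulVecLin_apply, Matrix.mulVecLin_apply, Matrix.mulVecLin_apply,
      ← mul, t2, mul])
    (fun v => by
      simp only [Matrix.mulVecLin_apply, ← mul]
      have h6 : y * (y * (y * (y * (y * (y * (y * (y * (y * (y * y))))))))) = y ^ 11 := by
        simp only [pow_succ, pow_zero, one_mul, mul_assoc]
      rw [h6, y11, one])
    (r.nofix h hp)
  -- the Dickson invariant
  obtain ⟨R, hR, -⟩ := H883.Bridge.exists_quadraticForm h.hQ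
  have hτΩ := h.hH.1.le hx'
  subst hR
  obtain ⟨g, hg, hgτ⟩ := hτΩ
  have hnd : (QuadraticMap.polarBilin R).Nondegenerate := by
    have hl : ∀ x, (∀ y, QuadraticMap.polarBilin R x y = 0) → x = 0 := by
      intro x hx
      by_contra hx0
      obtain ⟨-, z, hz⟩ := h.hQ.nondegenerate x hx0
      exact hz (hx z)
    exact ⟨hl, fun y hy => hl y fun x => by
      have := hy x
      rw [QuadraticMap.polarBilin_apply_apply] at this ⊢
      rwa [QuadraticMap.polar_comm]⟩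
  have h6 := OrthDickson.dsign_eq_one_of_mem_commutator R hnd (Or.inr (by rw [Fintype.card_fin]; norm_num)) g hg
  rw [OrthDickson.dsign_def] at h6
  have h7 : OrthCharTwo.fixSp g = H932.Mt.es (Matrix.mulVecLin (x' : Matrix (Fin 10) (Fin 10) F)) 1 := by
    ext v
    rw [OrthCharTwo.mem_fixSp, H932.Mt.mem_es_one, OrthCharTwo.act_def, Matrix.mulVecLin_apply, ← hgτ]
    rfl
  rw [h7, h5, Fintype.card_fin] at h6
  exact absurd h6 (by decide)

/-- the traces of the deleted permutation module of degree eleven -/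
theorem Rp.tr_ten [Fintype F] {ρ : G11 →* GL (Fin 10) F} {ζ : AlgebraicClosure F} (hz : ζ ^ 2 - ζ + 1 = 0)
    {g : G11} (h : (g.1 0 0 + g.1 1 1 = 2 ∨ g.1 0 0 + g.1 1 1 = 9 → tr (ρ g) = -1) ∧
      (g.1 0 0 + g.1 1 1 = 3 ∨ g.1 0 0 + g.1 1 1 = 4 ∨ g.1 0 0 + g.1 1 1 = 7 ∨ g.1 0 0 + g.1 1 1 = 8 → tr (ρ g) = 0) ∧
      (g.1 0 0 + g.1 1 1 = 0 → algebraMap F (AlgebraicClosure F) (tr (ρ g)) = -(ζ ^ 3 + (ζ⁻¹) ^ 3)) ∧
      (g.1 0 0 + g.1 1 1 = 1 ∨ g.1 0 0 + g.1 1 1 = 10 →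
        algebraMap F (AlgebraicClosure F) (tr (ρ g)) = -(ζ ^ 2 + (ζ⁻¹) ^ 2)) ∧
      (g.1 0 0 + g.1 1 1 = 5 ∨ g.1 0 0 + g.1 1 1 = 6 →
        algebraMap F (AlgebraicClosure F) (tr (ρ g)) = -(ζ + ζ⁻¹))) :
    tr (ρ g) = (N11 (g.1 0 0 + g.1 1 1) : F) - 1 := by
  obtain ⟨k1, k2, k3, k4, k5⟩ := h
  have hi : ζ⁻¹ = 1 - ζ := inv_eq_of_mul_eq_one_left (by linear_combination -hz)
  have inj : ∀ a b : F, algebraMap F (AlgebraicClosure F) a = algebraMap F (AlgebraicClosure F) b → a = b :=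
    fun a b h => (algebraMap F (AlgebraicClosure F)).injective h
  have e3 : g.1 0 0 + g.1 1 1 = 0 → tr (ρ g) = 3 - 1 := fun hs => by
    apply inj
    rw [k3 hs, hi, map_sub, map_ofNat, map_one]
    linear_combination (-3 : AlgebraicClosure F) * hz
  have e2 : g.1 0 0 + g.1 1 1 = 1 ∨ g.1 0 0 + g.1 1 1 = 10 → tr (ρ g) = 2 - 1 := fun hs => by
    apply inj
    rw [k4 hs, hi, map_sub, map_ofNat, map_one]
    linear_combination (-2 : AlgebraicClosure F) * hz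
  have e0 : g.1 0 0 + g.1 1 1 = 5 ∨ g.1 0 0 + g.1 1 1 = 6 → tr (ρ g) = 0 - 1 := fun hs => by
    apply inj
    rw [k5 hs, hi, map_sub, map_zero, map_one]
    ring
  have hs := all11 (g.1 0 0 + g.1 1 1)
  generalize g.1 0 0 + g.1 1 1 = s at *
  rcases hs with rfl | rfl | rfl | rfl | rfl | rfl | rfl | rfl | rfl | rfl | rfl
  · rw [show N11 0 = 3 by decide]; exact e3 rfl
  · rw [show N11 1 = 2 by decide]; exact e2 (Or.inl rfl)
  · rw [show N11 2 = 0 by decide, k1 (Or.inl rfl)]; norm_num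
  · rw [show N11 3 = 1 by decide, k2 (by decide)]; norm_num
  · rw [show N11 4 = 1 by decide, k2 (by decide)]; norm_num
  · rw [show N11 5 = 0 by decide]; exact_mod_cast e0 (Or.inl rfl)
  · rw [show N11 6 = 0 by decide]; exact_mod_cast e0 (Or.inr rfl)
  · rw [show N11 7 = 1 by decide, k2 (by decide)]; norm_num
  · rw [show N11 8 = 1 by decide, k2 (by decide)]; norm_num
  · rw [show N11 9 = 0 by decide, k1 (Or.inr rfl)]; norm_num
  · rw [show N11 10 = 2 by decide]; exact e2 (Or.inr rfl)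

/-- **`L₂(11)` in `Ω₁₀^±(2)`.** -/
theorem l2_two [Fintype F] (h : Cx 2 Q H P) (e : Soc P ≃* ProjectiveSpecialLinearGroup (Fin 2) (ZMod 11)) : False := by
  have := h.char
  have h2 : (2 : F) = 0 := by exact_mod_cast CharP.cast_eq_zero F 2
  obtain ⟨-, ρ, r⟩ := exists_rp h (by norm_num) e
  obtain ⟨ζ, -, z6, z1, -, hz⟩ := r.zeta h (by norm_num)
  have h2' : (2 : AlgebraicClosure F) = 0 := by
    have := congrArg (algebraMap F (AlgebraicClosure F)) h2
    rwa [map_ofNat, map_zero] at this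
  have z : ζ ^ 2 - ζ + 1 = 0 := by
    have h3 : (ζ + 1) ^ 2 * (ζ ^ 2 - ζ + 1) ^ 2 = 0 := by
      linear_combination z6 + (ζ ^ 3 + 1) * h2'
    rcases mul_eq_zero.1 h3 with h4 | h4
    · exact absurd (eq_neg_of_add_eq_zero_left (pow_eq_zero_iff (by norm_num) |>.1 h4)) z1
    · exact pow_eq_zero_iff (by norm_num) |>.1 h4
  exact r.kill h e (fun g hg => Rp.tr_ten z (hz g hg))
    (r.inner_or_outer h fun x hx hc => r.no_outer_two h (by norm_num) h2 hx hc)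

end Cfsg.Agent.H933.L11
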