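import Cfsg.Agent.H933.O10.Asm
import Cfsg.Agent.H937.T2Rep
import Cfsg.Agent.H36.U52.Main
import Cfsg.Agent.H916.SpSixK
import Cfsg.Agent.H916.OmD
import Cfsg.Agent.H95.LSx.Uni
import Cfsg.Agent.H95.LSx.G23
import Cfsg.Agent.H936.U33Two
import Cfsg.Agent.H659.Sp4Stage

/-!
# S5848 and S5851: landed rows (helper933)
-/

set_option autoImplicit false
set_option linter.unusedSectionVars false

namespace Cfsg.Agent.H933.O10

open Cfsg Cfsg.Geo Matrix Cfsg.Agent.H915.LD Cfsg.Agent.H912.Bd Cfsg.Agent.H912.Five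

universe u v

variable {F : Type u} [Field F] [Fintype F] {p : ℕ} {Q : (Fin 10 → F) → F} {H P : Subgroup (GL (Fin 10) F)}

theorem Cx.two_ne (h : Cx p Q H P) (hp : p ≠ 2) : (2 : F) ≠ 0 := by
  have := h.ne_zero (r := 2) Nat.prime_two hp
  exact_mod_cast this

theorem row_a5 (h : Cx p Q H P) (hp : p ≠ 5) (e : Nonempty (Soc P ≃* alternatingGroup (Fin 5))) : False := by
  obtain ⟨e⟩ := e
  have := Fact.mk h.prime
  have := h.char
  have h1 := H937.T2.a5_dims p h.core e hp
  rw [Fintype.card_fin] at h1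
  exact absurd h1 (by decide)

theorem zero_or_one {K : Type v} [Field K] [Fintype K] (hK : Fintype.card K = 2) (x : K) : x = 0 ∨ x = 1 := by
  have h1 := FiniteField.pow_card x
  rw [hK] at h1
  have h2 : x * (x - 1) = 0 := by linear_combination h1
  rcases mul_eq_zero.1 h2 with h3 | h3
  · exact Or.inl h3
  · exact Or.inr (sub_eq_zero.1 h3)

theorem row_s62 (h : Cx p Q H P) (hp : p ≠ 2) (hT : IsS 3 2 (Soc P)) : False := by
  obtain ⟨K, i1, i2, hK, ⟨e⟩⟩ := hT
  have h1 := H916.SpSix.spSix_dim (zero_or_one hK) h.core e (h.two_ne hp) (by rw [Fintype.card_fin]; norm_num)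
  rw [Fintype.card_fin] at h1
  omega

theorem row_o82 (h : Cx p Q H P) (hp : p ≠ 2) (hT : IsOP 4 2 (Soc P)) : False := by
  obtain ⟨K, i1, i2, hK, ⟨e⟩⟩ := hT
  have h1 := H916.Om.omega_dim (zero_or_one hK) h.core e (h.two_ne hp) (by rw [Fintype.card_fin]; norm_num)
  rw [Fintype.card_fin] at h1
  omega

theorem row_u62 (h : Cx p Q H P) (hp : p ≠ 2) (hT : IsU 6 2 (Soc P)) : False := by
  obtain ⟨K, i1, i2, hK, he⟩ := hT
  have := Fact.mk h.prime
  have := h.char
  have h1 := H936.List12.le_of_ls' h.core (H936.List12.cast_ne Nat.prime_two hp.symm)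
    (H95.LSx.Uni.ls_u62 (K := K) (by rw [hK]; norm_num)) he
  omega

theorem row_g23 (h : Cx p Q H P) (hp : p ≠ 3) (hT : H912.Bd.IsG2 3 (Soc P)) : False := by
  obtain ⟨K, i1, i2, hK, he⟩ := hT
  have := Fact.mk h.prime
  have := h.char
  have h1 := H936.List12.le_of_ls' h.core (H936.List12.cast_ne Nat.prime_three hp.symm) (H95.LSx.G23.ls hK) he
  omega

/-- `U₃(3)`, from the row for odd `p` -/
theorem row_u33 (h : Cx p Q H P) (hT : IsU 3 3 (Soc P)) (hodd : p ≠ 2 → False) : False := by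
  obtain ⟨K, i1, i2, hK, he⟩ := hT
  by_cases hp : p = 2
  · subst hp
    have := h.char
    have h1 := (H936.U33Two.u33_two h.core (by rw [hK]; norm_num) he (by rw [Fintype.card_fin]; norm_num)).1
    rw [Fintype.card_fin] at h1
    omega
  · exact hodd hp

end Cfsg.Agent.H933.O10
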