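import Cfsg.Agent.H933.O10.Eleven
import Cfsg.Agent.H954.TSing4

/-!
# The type of a quadratic form on `F^10` with an isometry of order 11 without fixed vectors (helper933)

* `plus_iff_odd` : plus type iff the order of `|F|` modulo 11 is odd;
* `odd_iff_sq` : the residues of `|F|` modulo 11;
* `type_eleven` : the type if `x ^ 11 = 1`, `x ≠ 1`, `y x y⁻¹ = x ^ 3`;
* `Cx.type_eleven` : the same if `Soc P` contains such elements and `P` has no scalars.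
-/

set_option autoImplicit false
set_option linter.unusedSectionVars false

namespace Cfsg.Agent.H933.O10

open Cfsg Cfsg.Geo Matrix Module Cfsg.Agent.H915.LD Cfsg.Agent.LieClassical.OrthCore
open Cfsg.Agent.H955 (IsPlus)

universe u

variable {F : Type u} [Field F] {ι : Type} [Fintype ι] [DecidableEq ι]

theorem plusTop_iff {Q : QuadraticForm F (ι → F)} : IsPlusTypeOn (⇑Q) ⊤ ↔ IsPlus Q := by
  constructor
  · rintro ⟨U, -, hU0, hd⟩
    exact ⟨U, fun u hu => hU0 u hu, by rw [hd, finrank_top]⟩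
  · rintro ⟨U, hU0, hd⟩
    exact ⟨U, le_top, fun u hu => hU0 u hu, by rw [finrank_top]; exact hd⟩

theorem plus_iff_odd [Fintype F] {Q : (ι → F) → F} (hQ : IsNondegenerateQuadraticForm Q)
    (hι : Fintype.card ι = 10) (h11 : (11 : F) ≠ 0) {x : GL ι F} (hx : x ∈ omegaGL Q) (hx11 : x ^ 11 = 1)
    (hfix : ∀ v, (x : Matrix ι ι F) *ᵥ v = v → v = 0) :
    IsPlusTypeOn Q ⊤ ↔ Odd (orderOf (Fintype.card F : ZMod 11)) := by
  obtain ⟨R, rfl, hR⟩ := H883.Bridge.exists_quadraticForm hQ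
  have : Fact (Nat.Prime 11) := ⟨by norm_num⟩
  rw [plusTop_iff]
  set X : Module.End F (ι → F) := Matrix.toLin' (x : Matrix ι ι F) with hX
  have hXa : ∀ v, X v = (x : Matrix ι ι F) *ᵥ v := fun v => Matrix.toLin'_apply _ _
  have hXQ : ∀ v, R (X v) = R v := fun v => by rw [hXa]; exact fix_of_mem_omegaGL hx v
  have hX11 : X ^ 11 = 1 := by
    rw [hX, ← Matrix.toLin'_pow, ← Units.val_pow_eq_pow_val, hx11, Units.val_one, Matrix.toLin'_one]
    rfl
  have hXf : ∀ v, X v = v → v = 0 := fun v hv => hfix v (by rw [← hXa, hv])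
  have hd : finrank F (ι → F) = 10 := by rw [Module.finrank_fintype_fun_eq_card, hι]
  have h11' : ((11 : ℕ) : F) ≠ 0 := by exact_mod_cast h11
  constructor
  · intro hP
    by_contra hodd
    rw [Nat.not_odd_iff_even] at hodd
    have hdvd : orderOf (Fintype.card F : ZMod 11) ∣ 10 := by
      have h0 : (Fintype.card F : ZMod 11) ≠ 0 := by
        intro h0
        have h1 : 11 ∣ Fintype.card F := (ZMod.natCast_eq_zero_iff _ _).1 h0
        obtain ⟨p, hp, n, hn, hpn⟩ := FiniteField.card' F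
        have h2 := (Nat.prime_dvd_prime_iff_eq (by norm_num) hn).1 ((by norm_num : Nat.Prime 11).dvd_of_dvd_pow (hpn ▸ h1))
        subst h2
        exact h11' (CharP.cast_eq_zero F 11)
      exact orderOf_dvd_of_pow_eq_one (ZMod.pow_card_sub_one_eq_one h0)
    obtain ⟨A, hA⟩ := hdvd
    have h1 := (H954.TSing.isPlus_iff_even (r := 11) hR (x := X) (by norm_num) h11' hXQ hX11 hXf rfl hodd
      (hd.trans hA)).1 hP
    obtain ⟨a, ha⟩ := hodd
    obtain ⟨b, hb⟩ := h1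
    rw [ha, hb] at hA
    have : (a + a) * (b + b) = 4 * (a * b) := by ring
    omega
  · intro hodd
    have hUn : Nondeg (H955.res R ⊤) := by
      intro v hv
      apply Subtype.ext
      refine hR _ fun w => ?_
      exact hv ⟨w, trivial⟩
    have hU0 : ⊤ ⊓ H951.fx X = ⊥ := by
      rw [eq_bot_iff]
      rintro v ⟨-, hv⟩
      exact (Submodule.mem_bot F).2 (hXf v (H951.mem_fx.1 hv))
    obtain ⟨W, -, -, hW, hWd⟩ := H954.TSing.exists_ts_half (r := 11) (x := X) (Q := R) hXQ inferInstance (by norm_num)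
      h11' hX11 (U := ⊤) (fun _ _ => trivial) hUn hU0 hodd
    exact ⟨W, hW, by rw [← hWd, finrank_top]⟩

/-- the residues modulo 11 -/
def Sq11 (q : ℕ) : Prop := q % 11 = 1 ∨ q % 11 = 3 ∨ q % 11 = 4 ∨ q % 11 = 5 ∨ q % 11 = 9

/-- the non-residues modulo 11 -/
def Nsq11 (q : ℕ) : Prop := q % 11 = 2 ∨ q % 11 = 6 ∨ q % 11 = 7 ∨ q % 11 = 8 ∨ q % 11 = 10

theorem card_ne_zero [Fintype F] (h11 : (11 : F) ≠ 0) : (Fintype.card F : ZMod 11) ≠ 0 := by
  intro h0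
  have h1 : 11 ∣ Fintype.card F := (ZMod.natCast_eq_zero_iff _ _).1 h0
  obtain ⟨p, hp, n, hn, hpn⟩ := FiniteField.card' F
  have h2 := (Nat.prime_dvd_prime_iff_eq (by norm_num) hn).1 ((by norm_num : Nat.Prime 11).dvd_of_dvd_pow (hpn ▸ h1))
  subst h2
  exact h11 (by exact_mod_cast CharP.cast_eq_zero F 11)

theorem residue {a : ZMod 11} (ha : a ≠ 0) : (Odd (orderOf a) → a ^ 5 = 1) ∧ (¬ Odd (orderOf a) → a ^ 5 ≠ 1) := by
  have : Fact (Nat.Prime 11) := ⟨by norm_num⟩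
  have hdvd : orderOf a ∣ 10 := orderOf_dvd_of_pow_eq_one (ZMod.pow_card_sub_one_eq_one ha)
  constructor
  · intro hodd
    apply orderOf_dvd_iff_pow_eq_one.1
    have h1 : Nat.Coprime (orderOf a) 2 := Nat.coprime_two_right.2 hodd
    exact h1.dvd_of_dvd_mul_right (by simpa using hdvd)
  · intro hodd h5
    apply hodd
    exact Odd.of_dvd_nat (by decide : Odd 5) (orderOf_dvd_of_pow_eq_one h5)

theorem odd_iff_sq {q : ℕ} (h0 : (q : ZMod 11) ≠ 0) :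
    (Odd (orderOf (q : ZMod 11)) → Sq11 q) ∧ (¬ Odd (orderOf (q : ZMod 11)) → Nsq11 q) := by
  obtain ⟨h1, h2⟩ := residue h0
  have hm : (q : ZMod 11) = ((q % 11 : ℕ) : ZMod 11) := (ZMod.natCast_mod q 11).symm
  have hlt : q % 11 < 11 := Nat.mod_lt _ (by norm_num)
  have hcase : ∀ k : Fin 11, ((k : ℕ) : ZMod 11) ≠ 0 →
      (((k : ℕ) : ZMod 11) ^ 5 = 1 → ((k : ℕ) = 1 ∨ (k : ℕ) = 3 ∨ (k : ℕ) = 4 ∨ (k : ℕ) = 5 ∨ (k : ℕ) = 9)) ∧
      (((k : ℕ) : ZMod 11) ^ 5 ≠ 1 → ((k : ℕ) = 2 ∨ (k : ℕ) = 6 ∨ (k : ℕ) = 7 ∨ (k : ℕ) = 8 ∨ (k : ℕ) = 10)) := by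
    decide
  obtain ⟨h3, h4⟩ := hcase ⟨q % 11, hlt⟩ (by rwa [← hm])
  change ((q % 11 : ℕ) : ZMod 11) ^ 5 = 1 → _ at h3
  change ((q % 11 : ℕ) : ZMod 11) ^ 5 ≠ 1 → _ at h4
  rw [← hm] at h3 h4
  exact ⟨fun h => h3 (h1 h), fun h => h4 (h2 h)⟩

/-- **The type.** -/
theorem type_eleven [Fintype F] (hι : Fintype.card ι = 10) (h11 : (11 : F) ≠ 0) {Q : (ι → F) → F}
    (hQ : IsNondegenerateQuadraticForm Q) {x y : GL ι F} (hx : x ∈ omegaGL Q) (hx11 : x ^ 11 = 1) (hx1 : x ≠ 1)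
    (hxy : y * x * y⁻¹ = x ^ 3) :
    (IsPlusTypeOn Q ⊤ → Sq11 (Fintype.card F)) ∧ (¬ IsPlusTypeOn Q ⊤ → Nsq11 (Fintype.card F)) := by
  rw [plus_iff_odd hQ hι h11 hx hx11 (no_fixed_eleven hι h11 hQ hx hx11 hx1 hxy)]
  exact odd_iff_sq (card_ne_zero h11)

/-! ### Lifting from the simple group -/

namespace Cx

variable {p : ℕ} {Q : (Fin 10 → F) → F} {H P : Subgroup (GL (Fin 10) F)}

theorem ker_sq (h : Cx p Q H P) {z : P} (hz : z ∈ (toSoc P).ker) : z ^ 2 = 1 := by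
  rw [ker_toSoc, Subgroup.mem_subgroupOf, mem_scalars_iff] at hz
  obtain ⟨c, hc⟩ := hz
  have h2 := h.scalar_sq z.2 hc
  apply Subtype.ext
  apply Units.ext
  rw [Subgroup.coe_pow, Units.val_pow_eq_pow_val, hc, smul_pow, one_pow, h2, one_smul]
  rfl

/-- elements of order 11 and their normalisers lift -/
theorem lift (h : Cx p Q H P) {T : Type*} [Group T] (e : Soc P ≃* T) {X Y : T} (hX : X ^ 11 = 1) (hX1 : X ≠ 1)
    (hXY : Y * X * Y⁻¹ = X ^ 3) :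
    ∃ x y : GL (Fin 10) F, x ∈ P ∧ y ∈ P ∧ x ^ 11 = 1 ∧ x ≠ 1 ∧ y * x * y⁻¹ = x ^ 3 := by
  obtain ⟨x0, hx0⟩ := toSoc_surjective P (e.symm X)
  obtain ⟨y0, hy0⟩ := toSoc_surjective P (e.symm Y)
  have h1 : x0 ^ 11 ∈ (toSoc P).ker := by
    rw [MonoidHom.mem_ker, map_pow, hx0, ← map_pow, hX, map_one]
  have h2 : (x0 ^ 3)⁻¹ * (y0 * x0 * y0⁻¹) ∈ (toSoc P).ker := by
    rw [MonoidHom.mem_ker, map_mul, map_inv, map_mul, map_mul, map_inv, map_pow, hx0, hy0, ← map_inv, ← map_pow,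
      ← map_mul, ← map_mul, ← map_inv, ← map_mul, hXY, inv_mul_cancel, map_one]
  have h11 : x0 ^ 132 = 1 := by
    have h3 := h.ker_sq h1
    calc x0 ^ 132 = ((x0 ^ 11) ^ 2) ^ 6 := by rw [← pow_mul, ← pow_mul]
      _ = 1 := by rw [h3, one_pow]
  have hz := h.ker_sq h2
  have hzc := ker_toSoc_le P h2
  set z := (x0 ^ 3)⁻¹ * (y0 * x0 * y0⁻¹) with hzdef
  have h4 : y0 * x0 * y0⁻¹ = x0 ^ 3 * z := by rw [hzdef]; group
  refine ⟨x0 ^ 12, y0, P.pow_mem x0.2 _, y0.2, ?_, ?_, ?_⟩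
  · have h5 : (x0 ^ 12) ^ 11 = 1 := by rw [← pow_mul]; exact h11
    exact_mod_cast congrArg Subtype.val h5
  · intro h5
    apply hX1
    have h6 : x0 ^ 12 = 1 := Subtype.ext (by exact_mod_cast h5)
    have h7 := congrArg (toSoc P) h6
    rw [map_pow, hx0, map_one, ← map_pow, pow_succ, hX, one_mul] at h7
    have h8 := congrArg e h7
    rwa [e.apply_symm_apply, map_one] at h8
  · have h5 : y0 * x0 ^ 12 * y0⁻¹ = (x0 ^ 12) ^ 3 := by
      rw [← conj_pow, h4]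
      have hcomm : Commute (x0 ^ 3) z := (Subgroup.mem_center_iff.1 hzc _)
      rw [hcomm.mul_pow, show z ^ 12 = (z ^ 2) ^ 6 by rw [← pow_mul], hz, one_pow, mul_one, ← pow_mul, ← pow_mul]
    exact_mod_cast congrArg Subtype.val h5

/-- **The type for every `T` containing `11:5`.** -/
theorem type (h : Cx p Q H P) [Fintype F] (h11 : (11 : F) ≠ 0) {T : Type*} [Group T] (e : Soc P ≃* T) {X Y : T}
    (hX : X ^ 11 = 1) (hX1 : X ≠ 1) (hXY : Y * X * Y⁻¹ = X ^ 3) :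
    (IsPlusTypeOn Q ⊤ → Sq11 (Fintype.card F)) ∧ (¬ IsPlusTypeOn Q ⊤ → Nsq11 (Fintype.card F)) := by
  obtain ⟨x, y, hx, -, h1, h2, h3⟩ := h.lift e hX hX1 hXY
  exact type_eleven (by rw [Fintype.card_fin]) h11 h.hQ (h.le_omega hx) h1 h2 h3

end Cx

/-! ### The alternating groups -/

/-- `i ↦ i + 1` on the first eleven points -/
def xPerm : Equiv.Perm (Fin 11) := ⟨fun i => i + 1, fun i => i - 1, fun i => by simp, fun i => by simp⟩

/-- `i ↦ 3 i` -/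
def yPerm : Equiv.Perm (Fin 11) := ⟨fun i => 3 * i, fun i => 4 * i, by decide, by decide⟩

theorem mem_alt_of_odd {κ : Type*} [Fintype κ] [DecidableEq κ] {σ : Equiv.Perm κ} {n : ℕ} (hn : Odd n)
    (h : σ ^ n = 1) : σ ∈ alternatingGroup κ := by
  rw [Equiv.Perm.mem_alternatingGroup]
  have h1 : Equiv.Perm.sign σ ^ n = 1 := by rw [← map_pow, h, map_one]
  obtain ⟨k, rfl⟩ := hn
  rwa [pow_succ, pow_mul, Int.units_sq, one_pow, one_mul] at h1

theorem alt_eleven {κ : Type*} [Fintype κ] [DecidableEq κ] (f : Fin 11 ↪ κ) :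
    ∃ X Y : alternatingGroup κ, X ^ 11 = 1 ∧ X ≠ 1 ∧ Y * X * Y⁻¹ = X ^ 3 := by
  have h1 : xPerm ^ 11 = 1 := by decide
  have h2 : yPerm ^ 5 = 1 := by decide
  have h3 : yPerm * xPerm * yPerm⁻¹ = xPerm ^ 3 := by decide
  have h4 : xPerm ≠ 1 := by decide
  set φ : Equiv.Perm (Fin 11) →* Equiv.Perm κ := Equiv.Perm.viaEmbeddingHom f
  have hφ : Function.Injective φ := Equiv.Perm.viaEmbeddingHom_injective f
  refine ⟨⟨φ xPerm, mem_alt_of_odd (n := 11) (by decide) (by rw [← map_pow, h1, map_one])⟩,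
    ⟨φ yPerm, mem_alt_of_odd (n := 5) (by decide) (by rw [← map_pow, h2, map_one])⟩, ?_, ?_, ?_⟩
  · apply Subtype.ext
    change φ xPerm ^ 11 = 1
    rw [← map_pow, h1, map_one]
  · intro h
    apply h4
    apply hφ
    rw [map_one]
    exact congrArg Subtype.val h
  · apply Subtype.ext
    change φ yPerm * φ xPerm * (φ yPerm)⁻¹ = φ xPerm ^ 3
    rw [← map_inv, ← map_mul, ← map_mul, h3, map_pow]

theorem psl_eleven : ∃ X Y : ProjectiveSpecialLinearGroup (Fin 2) (ZMod 11), X ^ 11 = 1 ∧ X ≠ 1 ∧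
    Y * X * Y⁻¹ = X ^ 3 := by
  let x : SpecialLinearGroup (Fin 2) (ZMod 11) := ⟨!![1, 1; 0, 1], by decide⟩
  let y : SpecialLinearGroup (Fin 2) (ZMod 11) := ⟨!![5, 0; 0, 9], by decide⟩
  have h1 : x ^ 11 = 1 := by decide
  have h2 : y * x * y⁻¹ = x ^ 3 := by decide
  refine ⟨QuotientGroup.mk x, QuotientGroup.mk y, ?_, ?_, ?_⟩
  · rw [← QuotientGroup.mk_pow, h1]; rfl
  · intro h
    rw [QuotientGroup.eq_one_iff] at h
    have h3 := Subgroup.mem_center_iff.1 h ⟨!![0, 1; -1, 0], by decide⟩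
    revert h3
    decide
  · rw [← QuotientGroup.mk_pow, ← h2]; rfl

end Cfsg.Agent.H933.O10
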